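import Cfsg.Agent.Char.Ortho
import Mathlib.Tactic.IntervalCases
import Mathlib.RingTheory.Int.Basic

/-!
# Characters at real elements whose sixth power is trivial, and two arithmetical facts
-/

set_option autoImplicit false

namespace Cfsg.Agent.ThreeKlein

open Cfsg.Agent
open scoped ComplexConjugate

universe u

variable {G : Type u} [Group G] [Finite G]

/-- The values at the powers of a real element `x` with `x ^ 6 = 1` are integers with congruences. -/
theorem six_values {χ : G → ℂ} (h : Cfsg.IsCharacter G χ) {x : G} (hx : x ^ 6 = 1)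
    (hr : IsConj x x⁻¹) :
    ∃ d v a b : ℤ, χ 1 = d ∧ χ (x ^ 3) = v ∧ χ (x ^ 4) = a ∧ χ x = b ∧
      3 ∣ d - a ∧ 3 ∣ v - b ∧ 2 ∣ a - b := by
  classical
  have hreal : conj (χ x) = χ x := by
    rw [← Char.IsChar.inv_eq_conj h,
      ← Char.classFun_isConj (Char.isClassFunction_of_isCharacter h) hr]
  have hreal4 : conj (χ (x ^ 4)) = χ (x ^ 4) := by
    rw [← Char.IsChar.inv_eq_conj h, ← inv_pow,
      ← Char.classFun_isConj (Char.isClassFunction_of_isCharacter h) (IsConj.pow 4 hr)]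
  obtain ⟨n, ρ, rfl⟩ := h
  obtain ⟨μ, B, hB, hμ, -⟩ := Char.exists_eigenbasis ρ x
  have hpow : ∀ j : ℕ, ρ.character (x ^ j) = ∑ i, μ i ^ j := by
    intro j
    refine Char.trace_eq_sum_of_eigenbasis _ B _ fun i => ?_
    induction j with
    | zero => simp
    | succ j ih =>
      rw [pow_succ', map_mul, Module.End.mul_apply, ih, map_smul, hB, smul_smul, pow_succ]
  have hμ6 : ∀ i, μ i ^ 6 = 1 := fun i => by
    obtain ⟨c, hc⟩ := orderOf_dvd_of_pow_eq_one hx
    rw [hc, pow_mul, hμ, one_pow]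
  set ω : ℂ := ⟨-1 / 2, Real.sqrt 3 / 2⟩ with hω
  have h3 : Real.sqrt 3 * Real.sqrt 3 = 3 := Real.mul_self_sqrt (by norm_num)
  have hω2 : ω ^ 2 + ω + 1 = 0 := by
    apply Complex.ext <;> simp [hω, sq] <;> linarith
  have hωim : ω.im ≠ 0 := by simp [hω]
  have hcω : conj ω = ω ^ 2 := by
    apply Complex.ext <;> simp [hω, sq] <;> linarith
  have hdec : ∀ i, ∃ s f0 f1 f2 : ℤ, ((s = 1 ∨ s = -1) ∧ f0 + f1 + f2 = 1) ∧
      μ i ^ 3 = s ∧ μ i ^ 4 = f0 + f1 * ω + f2 * ω ^ 2 := by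
    intro i
    obtain ⟨s, hs, hs'⟩ : ∃ s : ℤ, (s = 1 ∨ s = -1) ∧ μ i ^ 3 = s := by
      have h2 : (μ i ^ 3) ^ 2 = 1 := by rw [← pow_mul]; exact hμ6 i
      rcases sq_eq_one_iff.1 h2 with h | h
      · exact ⟨1, Or.inl rfl, by simpa using h⟩
      · exact ⟨-1, Or.inr rfl, by simpa using h⟩
    have hz : (μ i ^ 4 - 1) * ((μ i ^ 4 - ω) * (μ i ^ 4 - ω ^ 2)) = 0 := by
      linear_combination ((μ i) ^ 6 + 1) * hμ6 i +
        (- (μ i ^ 4) ^ 2 + (μ i ^ 4) * ω + (1 - ω)) * hω2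
    rcases mul_eq_zero.1 hz with hz | hz
    · exact ⟨s, 1, 0, 0, ⟨hs, rfl⟩, hs', by simpa using sub_eq_zero.1 hz⟩
    rcases mul_eq_zero.1 hz with hz | hz
    · exact ⟨s, 0, 1, 0, ⟨hs, rfl⟩, hs', by simpa using sub_eq_zero.1 hz⟩
    · exact ⟨s, 0, 0, 1, ⟨hs, rfl⟩, hs', by simpa using sub_eq_zero.1 hz⟩
  choose s f0 f1 f2 hsf hs3 hz4 using hdec
  have hval : ∀ i, μ i = (s i * f0 i : ℤ) + (s i * f1 i : ℤ) * ω + (s i * f2 i : ℤ) * ω ^ 2 := by
    intro i
    have e : μ i = μ i ^ 3 * μ i ^ 4 := by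
      rw [← pow_add, show (3 + 4 : ℕ) = 6 + 1 from rfl, pow_succ, hμ6, one_mul]
    rw [e, hs3, hz4]
    push_cast
    ring
  set A0 := ∑ i, s i * f0 i with hA0
  set A1 := ∑ i, s i * f1 i with hA1
  set A2 := ∑ i, s i * f2 i with hA2
  set B0 := ∑ i, f0 i with hB0
  set B1 := ∑ i, f1 i with hB1
  set B2 := ∑ i, f2 i with hB2
  have e1 : ρ.character x = A0 + A1 * ω + A2 * ω ^ 2 := by
    rw [← pow_one x, hpow]
    simp only [pow_one, hA0, hA1, hA2]
    push_cast
    rw [Finset.sum_mul, Finset.sum_mul, ← Finset.sum_add_distrib, ← Finset.sum_add_distrib]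
    exact Finset.sum_congr rfl fun i _ => by rw [hval i]; push_cast; ring
  have e4 : ρ.character (x ^ 4) = B0 + B1 * ω + B2 * ω ^ 2 := by
    rw [hpow]
    simp only [hB0, hB1, hB2]
    push_cast
    rw [Finset.sum_mul, Finset.sum_mul, ← Finset.sum_add_distrib, ← Finset.sum_add_distrib]
    exact Finset.sum_congr rfl fun i _ => hz4 i
  have e3 : ρ.character (x ^ 3) = (A0 + A1 + A2 : ℤ) := by
    rw [hpow, hA0, hA1, hA2, ← Finset.sum_add_distrib, ← Finset.sum_add_distrib]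
    push_cast
    refine Finset.sum_congr rfl fun i _ => ?_
    rw [hs3, ← mul_add, ← mul_add]
    exact_mod_cast (show s i = s i * (f0 i + f1 i + f2 i) by rw [(hsf i).2, mul_one])
  have e0 : ρ.character 1 = (B0 + B1 + B2 : ℤ) := by
    rw [← pow_zero x, hpow, hB0, hB1, hB2, ← Finset.sum_add_distrib, ← Finset.sum_add_distrib]
    push_cast
    refine Finset.sum_congr rfl fun i _ => ?_
    rw [pow_zero]
    exact_mod_cast (hsf i).2.symm
  have key : ∀ a b c : ℤ, conj ((a : ℂ) + b * ω + c * ω ^ 2) = a + b * ω + c * ω ^ 2 → b = c := by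
    intro a b c hc
    rw [← hcω] at hc
    have := congrArg Complex.im hc
    simp only [map_add, map_mul, map_intCast, Complex.conj_conj, Complex.add_im, Complex.intCast_im,
      Complex.mul_im, Complex.intCast_re, Complex.conj_im] at this
    have h' : ((b : ℝ) - c) * ω.im = 0 := by linarith
    rcases mul_eq_zero.1 h' with h' | h'
    · exact_mod_cast sub_eq_zero.1 h'
    · exact absurd h' hωim
  have hA : A1 = A2 := key A0 A1 A2 (by rw [← e1]; exact hreal)
  have hB' : B1 = B2 := key B0 B1 B2 (by rw [← e4]; exact hreal4)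
  have par : ∀ f : Fin (Module.finrank ℂ (Fin n → ℂ)) → ℤ,
      (2 : ℤ) ∣ (∑ i, f i) - ∑ i, s i * f i := by
    intro f
    rw [← Finset.sum_sub_distrib]
    refine Finset.dvd_sum fun i _ => ?_
    rcases (hsf i).1 with h | h <;> rw [h]
    · simp
    · exact ⟨f i, by ring⟩
  refine ⟨B0 + B1 + B2, A0 + A1 + A2, B0 - B1, A0 - A1, e0, e3, ?_, ?_, ⟨B1, by rw [hB']; ring⟩,
    ⟨A1, by rw [hA]; ring⟩, ?_⟩
  · rw [e4, ← hB']; push_cast; linear_combination (B1 : ℂ) * hω2
  · rw [e1, ← hA]; push_cast; linear_combination (A1 : ℂ) * hω2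
  · have h0 := par f0
    have h1 := par f1
    rw [← hB0, ← hA0] at h0
    rw [← hB1, ← hA1] at h1
    omega

/-- No triangular number of an argument `b ≡ 1 (mod 3)` is four times a square. -/
theorem not_tri_square {b m : ℤ} (hb : b % 3 = 1) : b * (b + 1) ≠ 8 * m ^ 2 := by
  intro h
  have hcase : ∃ k : ℤ, (b = 8 * k ∨ b + 1 = 8 * k) := by
    have h8 : (8 : ℤ) ∣ b * (b + 1) := ⟨m ^ 2, h⟩
    have : b % 8 = 0 ∨ b % 8 = 7 := by
      have h' : (b % 8 * (b % 8 + 1)) % 8 = 0 := by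
        rw [Int.mul_emod, Int.emod_emod, Int.add_emod, Int.emod_emod, ← Int.add_emod, ← Int.mul_emod]
        exact Int.emod_eq_zero_of_dvd h8
      have h0 := Int.emod_nonneg b (by norm_num : (8 : ℤ) ≠ 0)
      have h7 := Int.emod_lt_of_pos b (by norm_num : (0 : ℤ) < 8)
      interval_cases hr : b % 8 <;> omega
    rcases this with h' | h'
    · exact ⟨b / 8, Or.inl (by omega)⟩
    · exact ⟨(b + 1) / 8, Or.inr (by omega)⟩
  have no34 : ∀ t : ℤ, t ^ 2 % 4 ≠ 3 := by
    intro t ht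
    rcases Int.even_or_odd t with ⟨u, rfl⟩ | ⟨u, rfl⟩
    · rw [show (u + u) ^ 2 = 4 * u ^ 2 by ring] at ht; omega
    · rw [show (2 * u + 1) ^ 2 = 4 * (u ^ 2 + u) + 1 by ring] at ht; omega
  have no3 : ∀ r : ℤ, r ^ 2 % 3 ≠ 2 := by
    intro r
    rw [pow_two, Int.mul_emod]
    have := Int.emod_nonneg r (by norm_num : (3 : ℤ) ≠ 0)
    have := Int.emod_lt_of_pos r (by norm_num : (0 : ℤ) < 3)
    interval_cases r % 3 <;> norm_num
  obtain ⟨k, hk | hk⟩ := hcase
  · have hg : Int.gcd k (b + 1) = 1 := Int.isCoprime_iff_gcd_eq_one.1 ⟨-8, 1, by rw [hk]; ring⟩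
    have hm : k * (b + 1) = m ^ 2 := by
      refine mul_left_cancel₀ (show (8 : ℤ) ≠ 0 by norm_num) ?_
      rw [← mul_assoc, ← hk, h]
    obtain ⟨s, hs | hs⟩ := Int.sq_of_gcd_eq_one hg hm
    · have : s ^ 2 % 3 = 2 := by rw [← hs]; omega
      exact no3 s this
    · obtain ⟨t, ht | ht⟩ := Int.sq_of_gcd_eq_one (a := b + 1) (b := k)
        (by rwa [Int.gcd_comm]) (by rw [mul_comm]; exact hm)
      · rw [hk, hs] at ht
        by_cases hs0 : s = 0
        · subst hs0; simp at hs; omega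
        · have : 0 < s ^ 2 := by positivity
          have := sq_nonneg t
          omega
      · exact no34 t (by rw [hk, hs] at ht; omega)
  · have hg : Int.gcd k b = 1 := Int.isCoprime_iff_gcd_eq_one.1 ⟨8, -1, by linear_combination -hk⟩
    have hm : k * b = m ^ 2 := by
      refine mul_left_cancel₀ (show (8 : ℤ) ≠ 0 by norm_num) ?_
      rw [← mul_assoc, ← hk, mul_comm, h]
    obtain ⟨s, hs | hs⟩ := Int.sq_of_gcd_eq_one hg hm
    · obtain ⟨t, ht | ht⟩ := Int.sq_of_gcd_eq_one (a := b) (b := k)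
        (by rwa [Int.gcd_comm]) (by rw [mul_comm]; exact hm)
      · exact no34 t (by omega)
      · have : 0 ≤ t ^ 2 := sq_nonneg t
        have : 0 ≤ s ^ 2 := sq_nonneg s
        omega
    · have : s ^ 2 % 3 = 2 := by omega
      exact no3 s this

end Cfsg.Agent.ThreeKlein
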