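import Cfsg.Agent.ThreeKlein.Linear
import Cfsg.Agent.Coprime.Generation
import Mathlib.GroupTheory.NoncommCoprod
import Mathlib.GroupTheory.Transfer
import Mathlib.GroupTheory.SchurZassenhaus
import Mathlib.GroupTheory.SpecificGroups.KleinFour

/-!
# The normalizer model and the conclusion
-/

set_option autoImplicit false

namespace Cfsg.Agent.ThreeKlein

open Cfsg.Agent Subgroup

universe u

variable {G : Type u} [Group G]

theorem mod_split : ∀ x : M0, inT x = false → ∃ j i : Fin 3, ∃ k : M0,
    (k = mA ∨ k = mB ∨ k = mC) ∧ x = k * (ma ^ (j : ℕ) * mb ^ (i : ℕ)) := by decide +kernel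

theorem pow_val_add {a : G} (ha : a ^ 3 = 1) (i j : ZMod 3) :
    a ^ (i + j).val = a ^ i.val * a ^ j.val := by
  rw [← pow_add, ZMod.val_add]
  conv_rhs => rw [← Nat.mod_add_div (i.val + j.val) 3, pow_add, pow_mul, ha, one_pow, mul_one]

/-- The homomorphism out of the dihedral group of order six. -/
def dihHom (a A : G) (ha : a ^ 3 = 1) (hA : A * A = 1) (hAa : A * a * A = a⁻¹) :
    DihedralGroup 3 →* G :=
  MonoidHom.mk' (fun x => match x with
    | .r i => a ^ i.val
    | .sr i => A * a ^ i.val) (by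
    have hsw : ∀ i : ZMod 3, a ^ i.val * A = A * a ^ (-i).val := by
      intro i
      have hAi : A⁻¹ = A := inv_eq_of_mul_eq_one_right hA
      have e1 : A * a ^ i.val * A = (a ^ i.val)⁻¹ := by
        have := conj_pow (a := A) (b := a) (i := i.val)
        rw [hAi, hAa] at this
        rw [← this, inv_pow]
      have e2 : a ^ (-i).val = (a ^ i.val)⁻¹ := by
        apply eq_inv_of_mul_eq_one_left
        rw [← pow_val_add ha, neg_add_cancel]
        simp
      rw [e2, ← e1, ← mul_assoc, ← mul_assoc, hA, one_mul]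
    intro x y
    rcases x with i | i <;> rcases y with j | j
    · exact pow_val_add ha i j
    · show A * a ^ (j - i).val = a ^ i.val * (A * a ^ j.val)
      rw [← mul_assoc, hsw, mul_assoc, ← pow_val_add ha, neg_add_eq_sub]
    · show A * a ^ (i + j).val = A * a ^ i.val * a ^ j.val
      rw [pow_val_add ha, mul_assoc]
    · show a ^ (j - i).val = A * a ^ i.val * (A * a ^ j.val)
      rw [show A * a ^ i.val * (A * a ^ j.val) = A * (a ^ i.val * A) * a ^ j.val by
        simp only [mul_assoc], hsw, ← mul_assoc, hA, one_mul, ← pow_val_add ha, neg_add_eq_sub])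

theorem dihHom_r {a A : G} {ha : a ^ 3 = 1} {hA : A * A = 1} {hAa : A * a * A = a⁻¹} :
    dihHom a A ha hA hAa (.r 1) = a ∧ dihHom a A ha hA hAa (.sr 0) = A := by
  constructor
  · show a ^ (1 : ZMod 3).val = a
    rw [show (1 : ZMod 3).val = 1 from rfl, pow_one]
  · show A * a ^ (0 : ZMod 3).val = A
    simp

variable [Finite G]

/-- The hypotheses give a configuration. -/
theorem exists_cfg (T : Sylow 3 G) (hab : ∀ x ∈ (T : Subgroup G), ∀ y ∈ (T : Subgroup G), x * y = y * x)
    (hexp : ∀ x ∈ (T : Subgroup G), x ^ 3 = 1) (hcard : Nat.card (T : Subgroup G) = 9)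
    (hC : centralizer ((T : Subgroup G) : Set G) = T)
    [hn : ((T : Subgroup G).subgroupOf (normalizer ((T : Subgroup G) : Set G))).Normal]
    (hK : IsKleinFour (↥(normalizer ((T : Subgroup G) : Set G)) ⧸
      (T : Subgroup G).subgroupOf (normalizer ((T : Subgroup G) : Set G))))
    (hloc : ∀ t ∈ (T : Subgroup G), t ≠ 1 →
      centralizer ({t} : Set G) ≤ normalizer ((T : Subgroup G) : Set G)) :
    ∃ φ : M0 →* G, Cfg T φ := by
  classical
  have := Fintype.ofFinite G
  set N := normalizer ((T : Subgroup G) : Set G) with hN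
  set TN := (T : Subgroup G).subgroupOf N
  have hTN : Nat.card TN = 9 := by
    rw [Nat.card_congr (subgroupOfEquivOfLe le_normalizer).toEquiv, hcard]
  have hidx : TN.index = 4 := IsKleinFour.card_four
  obtain ⟨K, hKc⟩ := exists_right_complement'_of_coprime (N := TN) (by rw [hTN, hidx]; norm_num)
  have hKcard : Nat.card K = 4 := by rw [← hKc.symm.index_eq_card, hidx]
  let KG : Subgroup G := K.map N.subtype
  have hKGc : Nat.card KG = 4 := by rw [Subgroup.card_map_of_injective N.subtype_injective, hKcard]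
  have hKN : ∀ k ∈ KG, ∀ t ∈ (T : Subgroup G), k * t * k⁻¹ ∈ (T : Subgroup G) := by
    rintro _ ⟨k, -, rfl⟩ t ht
    exact (mem_normalizer_iff.1 k.2 t).1 ht
  have hdis : ∀ k ∈ KG, k ∈ (T : Subgroup G) → k = 1 := by
    rintro _ ⟨k, hk, rfl⟩ ht
    have : k ∈ TN ⊓ K := ⟨ht, hk⟩
    rw [hKc.disjoint.eq_bot, mem_bot] at this
    rw [this, map_one]
  have hsq : ∀ k ∈ KG, k * k = 1 := by
    rintro _ ⟨k, hk, rfl⟩
    have h1 : ((k : N ⧸ TN)) ^ 2 = 1 := by
      have := Monoid.pow_exponent_eq_one (k : N ⧸ TN)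
      rwa [IsKleinFour.exponent_two] at this
    rw [← QuotientGroup.mk_pow, QuotientGroup.eq_one_iff, sq] at h1
    rw [← map_mul]
    exact hdis _ ⟨k * k, K.mul_mem hk hk, rfl⟩ h1
  have hinv : ∀ k ∈ KG, k⁻¹ = k := fun k hk => inv_eq_of_mul_eq_one_right (hsq k hk)
  have hKcomm : ∀ k ∈ KG, ∀ l ∈ KG, k * l = l * k := fun k hk l hl => by
    rw [← hinv _ (KG.mul_mem hk hl), mul_inv_rev, hinv _ hk, hinv _ hl]
  have hfaith : ∀ k ∈ KG, (∀ t ∈ (T : Subgroup G), k * t * k = t) → k = 1 := by
    intro k hk h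
    refine hdis k hk ?_
    rw [← hC, mem_centralizer_iff]
    intro t ht
    calc t * k = k * t * k * k := by rw [h t ht]
      _ = k * t := by rw [mul_assoc, hsq k hk, mul_one]
  have hkT : ∀ k ∈ KG, ∀ t ∈ (T : Subgroup G), k * t * k ∈ (T : Subgroup G) := fun k hk t ht => by
    simpa [hinv k hk] using hKN k hk t ht
  have hfix : ∀ k ∈ KG, ∀ t ∈ (T : Subgroup G), k * (t * (k * t * k)) * k = t * (k * t * k) := by
    intro k hk t ht
    calc k * (t * (k * t * k)) * k = k * t * k * t * (k * k) := by simp only [mul_assoc]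
      _ = k * t * k * t := by rw [hsq k hk, mul_one]
      _ = _ := hab _ (hkT k hk t ht) t ht
  -- at most one element inverts
  have hI : ∀ k ∈ KG, ∀ l ∈ KG, (∀ t ∈ (T : Subgroup G), k * t * k = t⁻¹) →
      (∀ t ∈ (T : Subgroup G), l * t * l = t⁻¹) → k = l := by
    intro k hk l hl h1 h2
    have : k * l = 1 := hfaith _ (KG.mul_mem hk hl) fun t ht => by
      calc k * l * t * (k * l) = k * l * t * (l * k) := by rw [hKcomm k hk l hl]
        _ = k * (l * t * l) * k := by simp only [mul_assoc]
        _ = t := by rw [h2 t ht, h1 _ (inv_mem ht), inv_inv]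
    rw [← hinv l hl]
    exact eq_inv_of_mul_eq_one_left this
  have hex : ∀ k ∈ KG, (∀ t ∈ (T : Subgroup G), k * t * k = t⁻¹) ∨
      ∃ t ∈ (T : Subgroup G), t ≠ 1 ∧ k * t * k = t := by
    intro k hk
    by_contra h
    push Not at h
    obtain ⟨⟨t, ht, hne⟩, h2⟩ := h
    exact h2 (t * (k * t * k)) (mul_mem ht (hkT k hk t ht))
      (fun e => hne (eq_inv_of_mul_eq_one_right e)) (hfix k hk t ht)
  obtain ⟨A, hA, B, hB, hA1, hB1, hAB, ⟨b, hb, hb1, hAb⟩, ⟨a, ha, ha1, hBa⟩⟩ :
      ∃ A ∈ KG, ∃ B ∈ KG, A ≠ 1 ∧ B ≠ 1 ∧ A ≠ B ∧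
        (∃ t ∈ (T : Subgroup G), t ≠ 1 ∧ A * t * A = t) ∧
        ∃ t ∈ (T : Subgroup G), t ≠ 1 ∧ B * t * B = t := by
    let F : Finset G := (Finset.univ.filter fun k : G => k ∈ KG).erase 1
    have hF : F.card = 3 := by
      rw [Finset.card_erase_of_mem (by simp [one_mem]), ← Fintype.card_subtype,
        ← Nat.card_eq_fintype_card, hKGc]
    have hF1 : ((F.filter fun k => ¬ ∀ t ∈ (T : Subgroup G), k * t * k = t⁻¹)).card ≥ 2 := by
      have := Finset.card_filter_add_card_filter_not (s := F)
        (p := fun k => ∀ t ∈ (T : Subgroup G), k * t * k = t⁻¹)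
      have h1 : (F.filter fun k => ∀ t ∈ (T : Subgroup G), k * t * k = t⁻¹).card ≤ 1 := by
        refine Finset.card_le_one.2 fun x hx y hy => ?_
        simp [F] at hx hy
        exact hI x hx.1.2 y hy.1.2 hx.2 hy.2
      omega
    obtain ⟨A, hA, B, hB, hne⟩ := Finset.one_lt_card.1 hF1
    simp only [F, Finset.mem_filter, Finset.mem_erase, Finset.mem_univ, true_and] at hA hB
    exact ⟨A, hA.1.2, B, hB.1.2, hA.1.1, hB.1.1, hne, (hex A hA.1.2).resolve_left hA.2,
      (hex B hB.1.2).resolve_left hB.2⟩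
  have ha3 : a ^ 3 = 1 := hexp a ha
  have hoa : orderOf a = 3 := orderOf_eq_prime ha3 ha1
  -- fixed points form the cyclic group of a fixed point
  have hFix : ∀ k ∈ KG, k ≠ 1 → ∀ x ∈ (T : Subgroup G), x ≠ 1 → k * x * k = x →
      ∀ y ∈ (T : Subgroup G), k * y * k = y → y ∈ zpowers x := by
    intro k hk hk1 x hx hx1 hkx y hy hky
    by_contra hny
    have h3 : Nat.card (zpowers x) = 3 := by rw [Nat.card_zpowers, orderOf_eq_prime (hexp x hx) hx1]
    have hle : zpowers x ⊔ zpowers y ≤ (T : Subgroup G) := sup_le (zpowers_le.2 hx) (zpowers_le.2 hy)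
    have hlt : zpowers x < zpowers x ⊔ zpowers y := lt_of_le_of_ne le_sup_left fun e =>
      hny (e ▸ (le_sup_right : zpowers y ≤ zpowers x ⊔ zpowers y) (mem_zpowers y))
    have hd := card_dvd_of_le hle
    rw [hcard] at hd
    have hgt : 3 < Nat.card ↥(zpowers x ⊔ zpowers y) := h3 ▸ Nat.lt_of_not_le fun hge =>
      hlt.ne (eq_of_le_of_card_ge hlt.le hge)
    have heq : zpowers x ⊔ zpowers y = (T : Subgroup G) := by
      refine eq_of_le_of_card_ge hle ?_
      rw [hcard]
      have h9 := Nat.le_of_dvd (by norm_num) hd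
      interval_cases hh : Nat.card ↥(zpowers x ⊔ zpowers y) <;> omega
    refine hk1 (hfaith k hk fun t ht => ?_)
    have hCk : (T : Subgroup G) ≤ centralizer ({k} : Set G) := by
      rw [← heq, sup_le_iff, zpowers_le, zpowers_le]
      constructor <;> rw [mem_centralizer_singleton_iff]
      · nth_rewrite 1 [← hkx]; rw [mul_assoc, hsq k hk, mul_one]
      · nth_rewrite 1 [← hky]; rw [mul_assoc, hsq k hk, mul_one]
    rw [mem_centralizer_singleton_iff.1 (hCk ht) |>.symm, mul_assoc, hsq k hk, mul_one]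
  have hAa : A * a * A = a⁻¹ := by
    have hm : A * a * A ∈ zpowers a := hFix B hB hB1 a ha ha1 hBa _ (hkT A hA a ha) (by
      calc B * (A * a * A) * B = (B * A) * a * (A * B) := by simp only [mul_assoc]
        _ = (A * B) * a * (B * A) := by rw [hKcomm A hA B hB]
        _ = A * (B * a * B) * A := by simp only [mul_assoc]
        _ = _ := by rw [hBa])
    have key : A * a * A = a ∨ A * a * A = a⁻¹ := by
      obtain ⟨z, hz⟩ := mem_zpowers_iff.1 hm
      have hmod : a ^ z = a ^ (z % 3) := by
        have := zpow_mod_orderOf a z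
        rw [hoa] at this
        exact this.symm
      have : z % 3 = 0 ∨ z % 3 = 1 ∨ z % 3 = 2 := by omega
      rcases this with h | h | h <;> rw [← hz, hmod, h]
      · exfalso
        have h1 : A * a * A = 1 := by rw [← hz, hmod, h, zpow_zero]
        refine ha1 ?_
        calc a = A * A * a * (A * A) := by rw [hsq A hA]; group
          _ = A * (A * a * A) * A := by simp only [mul_assoc]
          _ = 1 := by rw [h1, mul_one, hsq A hA]
      · left; simp
      · right
        rw [show (2 : ℤ) = (2 : ℕ) from rfl, zpow_natCast]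
        refine eq_inv_of_mul_eq_one_left ?_
        rw [← pow_succ, ha3]
    refine key.resolve_left fun hAfix => ?_
    -- both fix `a`, hence so does the product
    have hAB1 : A * B ≠ 1 := fun e => hAB (by rw [eq_inv_of_mul_eq_one_left e, hinv B hB])
    have hABm := KG.mul_mem hA hB
    have hCa : A * B * a * (A * B) = a := by
      calc A * B * a * (A * B) = A * B * a * (B * A) := by rw [hKcomm A hA B hB]
        _ = A * (B * a * B) * A := by simp only [mul_assoc]
        _ = a := by rw [hBa, hAfix]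
    refine hAB1 (hfaith _ hABm fun t ht => ?_)
    have key2 : ∀ k ∈ KG, k ≠ 1 → k * a * k = a → ∃ c ∈ zpowers a, k * t * k = t⁻¹ * c :=
      fun k hk hk1 hka => ⟨t * (k * t * k), hFix k hk hk1 a ha ha1 hka _ (mul_mem ht (hkT k hk t ht))
        (hfix k hk t ht), by group⟩
    obtain ⟨c, hc, hct⟩ := key2 B hB hB1 hBa
    obtain ⟨d, hd, hdt⟩ := key2 A hA hA1 hAfix
    have hfixA : ∀ z ∈ zpowers a, A * z * A = z := by
      intro z hz
      obtain ⟨i, rfl⟩ := mem_zpowers_iff.1 hz
      have := conj_zpow (a := A) (b := a) (i := i)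
      rw [hinv A hA, hAfix] at this
      exact this.symm
    have hfixC : ∀ z ∈ zpowers a, A * B * z * (A * B) = z := by
      intro z hz
      obtain ⟨i, rfl⟩ := mem_zpowers_iff.1 hz
      have := conj_zpow (a := A * B) (b := a) (i := i)
      rw [hinv _ hABm, hCa] at this
      exact this.symm
    have hcT : c ∈ (T : Subgroup G) := zpowers_le.2 ha hc
    have hdT : d ∈ (T : Subgroup G) := zpowers_le.2 ha hd
    have e : A * B * t * (A * B) = t * (d⁻¹ * c) := by
      calc A * B * t * (A * B) = A * B * t * (B * A) := by rw [hKcomm A hA B hB]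
        _ = A * (B * t * B) * A := by simp only [mul_assoc]
        _ = A * (t⁻¹ * c) * A := by rw [hct]
        _ = A * t⁻¹ * (A * A) * c * A := by rw [hsq A hA]; group
        _ = (A⁻¹ * t * A⁻¹)⁻¹ * (A * c * A) := by group
        _ = d⁻¹ * t * c := by rw [hinv A hA, hdt, hfixA c hc]; group
        _ = t * (d⁻¹ * c) := by rw [hab _ (inv_mem hdT) t ht, mul_assoc]
    set m := d⁻¹ * c with hm'
    have hmz : m ∈ zpowers a := mul_mem (inv_mem hd) hc
    have hmT : m ∈ (T : Subgroup G) := zpowers_le.2 ha hmz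
    have h2 : t * (m * m) = t := by
      have e2 : A * B * (t * m) * (A * B) = t * (m * m) := by
        calc A * B * (t * m) * (A * B) = A * B * (t * (A * B * (A * B)) * m) * (A * B) := by
              rw [hsq _ hABm, mul_one]
          _ = (A * B * t * (A * B)) * (A * B * m * (A * B)) := by simp only [mul_assoc]
          _ = t * (m * m) := by rw [e, hfixC m hmz, mul_assoc]
      rw [← e2, ← e, show A * B * (A * B * t * (A * B)) * (A * B) =
        A * B * (A * B) * t * (A * B * (A * B)) by simp only [mul_assoc], hsq _ hABm, one_mul, mul_one]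
    have h3 : m = 1 := by
      have h22 : m * m = 1 := mul_eq_left.1 h2
      have h33 := hexp m hmT
      rw [pow_succ, sq, h22, one_mul] at h33
      exact h33
    rw [e, h3, mul_one]
  have hb3 : b ^ 3 = 1 := hexp b hb
  have hBb : B * b * B = b⁻¹ := by
    have hm : B * b * B ∈ zpowers b := hFix A hA hA1 b hb hb1 hAb _ (hkT B hB b hb) (by
      calc A * (B * b * B) * A = (A * B) * b * (B * A) := by simp only [mul_assoc]
        _ = (B * A) * b * (A * B) := by rw [hKcomm A hA B hB]
        _ = B * (A * b * A) * B := by simp only [mul_assoc]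
        _ = _ := by rw [hAb])
    obtain ⟨z, hz⟩ := mem_zpowers_iff.1 hm
    have hob : orderOf b = 3 := orderOf_eq_prime hb3 hb1
    have hmod : b ^ z = b ^ (z % 3) := by
      have := zpow_mod_orderOf b z
      rw [hob] at this
      exact this.symm
    have : z % 3 = 0 ∨ z % 3 = 1 ∨ z % 3 = 2 := by omega
    rcases this with h | h | h
    · exfalso
      have h1 : B * b * B = 1 := by rw [← hz, hmod, h, zpow_zero]
      refine hb1 ?_
      calc b = B * B * b * (B * B) := by rw [hsq B hB]; group
        _ = B * (B * b * B) * B := by simp only [mul_assoc]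
        _ = 1 := by rw [h1, mul_one, hsq B hB]
    · exfalso
      have h1 : B * b * B = b := by rw [← hz, hmod, h, zpow_one]
      obtain ⟨i, hi⟩ := mem_zpowers_iff.1 (hFix B hB hB1 a ha ha1 hBa b hb h1)
      have := conj_zpow (a := A) (b := a) (i := i)
      rw [hinv A hA, hAa, hi, hAb, inv_zpow, hi] at this
      refine hb1 ?_
      have h22 : b * b = 1 := by nth_rewrite 1 [← this]; exact inv_mul_cancel b
      rw [pow_succ, sq, h22, one_mul] at hb3
      exact hb3
    · rw [← hz, hmod, h, show (2 : ℤ) = (2 : ℕ) from rfl, zpow_natCast]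
      refine eq_inv_of_mul_eq_one_left ?_
      rw [← pow_succ, hb3]
  have hAbc : Commute A b := by
    show A * b = b * A
    nth_rewrite 2 [← hAb]; rw [mul_assoc, hsq A hA, mul_one]
  have hBac : Commute B a := by
    show B * a = a * B
    nth_rewrite 2 [← hBa]; rw [mul_assoc, hsq B hB, mul_one]
  let f₁ := dihHom a A (hexp a ha) (hsq A hA) hAa
  let f₂ := dihHom b B (hexp b hb) (hsq B hB) hBb
  have hcomm : ∀ x y, Commute (f₁ x) (f₂ y) := by
    have hAB' : Commute A B := hKcomm A hA B hB
    have hab' : Commute a b := hab a ha b hb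
    rintro (i | i) (j | j)
    · exact (hab'.pow_pow i.val j.val)
    · exact Commute.mul_right (hBac.symm.pow_left i.val) (hab'.pow_pow i.val j.val)
    · exact Commute.mul_left (hAbc.pow_right j.val) (hab'.pow_pow i.val j.val)
    · exact (hAB'.mul_right (hAbc.pow_right j.val)).mul_left
        ((hBac.symm.pow_left i.val).mul_right (hab'.pow_pow i.val j.val))
  let φ : M0 →* G := f₁.noncommCoprod f₂ hcomm
  have va : φ ma = a := by
    show f₁ (.r 1) * f₂ 1 = a
    rw [map_one, mul_one]; exact dihHom_r.1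
  have vb : φ mb = b := by
    show f₁ 1 * f₂ (.r 1) = b
    rw [map_one, one_mul]; exact dihHom_r.1
  have vA : φ mA = A := by
    show f₁ (.sr 0) * f₂ 1 = A
    rw [map_one, mul_one]; exact dihHom_r.2
  have vB : φ mB = B := by
    show f₁ 1 * f₂ (.sr 0) = B
    rw [map_one, one_mul]; exact dihHom_r.2
  have vC : φ mC = A * B := by
    rw [(by decide +kernel : mC = mA * mB), map_mul, vA, vB]
  have hTin : ∀ m, inT m = true → φ m ∈ (T : Subgroup G) := by
    intro m hm
    obtain ⟨j, i, rfl⟩ := gen_T m hm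
    rw [map_mul, map_pow, map_pow, va, vb]
    exact mul_mem (pow_mem ha _) (pow_mem hb _)
  have hmem : ∀ m, φ m ∈ (T : Subgroup G) ↔ inT m = true := by
    refine fun m => ⟨fun hm => ?_, hTin m⟩
    by_contra hne
    obtain ⟨j, i, k, hk, rfl⟩ := mod_split m (by simpa using hne)
    have ht : φ (ma ^ (j : ℕ) * mb ^ (i : ℕ)) ∈ (T : Subgroup G) := by
      rw [map_mul, map_pow, map_pow, va, vb]
      exact mul_mem (pow_mem ha _) (pow_mem hb _)
    rw [map_mul] at hm
    have hkT' := (Subgroup.mul_mem_cancel_right _ ht).1 hm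
    rcases hk with rfl | rfl | rfl
    · rw [vA] at hkT'; exact hA1 (hdis A hA hkT')
    · rw [vB] at hkT'; exact hB1 (hdis B hB hkT')
    · rw [vC] at hkT'
      exact hAB (by rw [eq_inv_of_mul_eq_one_left (hdis _ (KG.mul_mem hA hB) hkT'), hinv B hB])
  have hinj : Function.Injective φ := by
    rw [injective_iff_map_eq_one]
    intro x hx
    have hxT : inT x = true := (hmem x).1 (hx ▸ one_mem _)
    obtain ⟨j, i, rfl⟩ := gen_T x hxT
    rw [map_mul, map_pow, map_pow, va, vb] at hx
    have hbj : b ^ (i : ℕ) ∈ zpowers a := by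
      rw [eq_inv_of_mul_eq_one_right hx]
      exact inv_mem (pow_mem (mem_zpowers a) _)
    have hB0 : B * b ^ (i : ℕ) * B = b ^ (i : ℕ) := by
      obtain ⟨z, hz⟩ := mem_zpowers_iff.1 hbj
      have := conj_zpow (a := B) (b := a) (i := z)
      rw [hinv B hB, hBa, hz] at this
      exact this.symm
    have hB1' : B * b ^ (i : ℕ) * B = (b ^ (i : ℕ))⁻¹ := by
      have := conj_pow (a := B) (b := b) (i := (i : ℕ))
      rw [hinv B hB, hBb, inv_pow] at this
      exact this.symm
    have hbi : b ^ (i : ℕ) = 1 := by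
      have h := hB0.symm.trans hB1'
      have h22 : b ^ (i : ℕ) * b ^ (i : ℕ) = 1 := by nth_rewrite 1 [h]; exact inv_mul_cancel _
      have h33 : (b ^ (i : ℕ)) ^ 3 = 1 := hexp _ (pow_mem hb _)
      rw [pow_succ, sq, h22, one_mul] at h33
      exact h33
    rw [hbi, mul_one] at hx
    have hi : (i : ℕ) = 0 := by
      have := orderOf_dvd_of_pow_eq_one hbi
      rw [orderOf_eq_prime hb3 hb1] at this
      omega
    have hj : (j : ℕ) = 0 := by
      have := orderOf_dvd_of_pow_eq_one hx
      rw [hoa] at this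
      omega
    simp [hi, hj]
  refine ⟨φ, hinj, ?_, hmem, hC, fun t ht ht1 => ?_⟩
  all_goals
    have hr : φ.range = N := by
      refine eq_of_le_of_card_ge ?_ ?_
      · rintro _ ⟨x, rfl⟩
        by_cases hxT : inT x = true
        · exact le_normalizer (hTin x hxT)
        obtain ⟨j, i, k, hk, rfl⟩ := mod_split x (by simpa using hxT)
        rw [map_mul, map_mul, map_pow, map_pow, va, vb]
        refine mul_mem ?_ (le_normalizer (mul_mem (pow_mem ha _) (pow_mem hb _)))
        have : KG ≤ N := map_subtype_le K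
        rcases hk with rfl | rfl | rfl
        · rw [vA]; exact this hA
        · rw [vB]; exact this hB
        · rw [vC]; exact this (mul_mem hA hB)
      · rw [← card_mul_index TN, hTN, hidx, Nat.card_congr (MonoidHom.ofInjective hinj).toEquiv.symm,
          Nat.card_eq_fintype_card]
        decide +kernel
  · exact hr
  · rw [hr]; exact hloc t ht ht1

/-- The Sylow subgroup is normal. -/
theorem Cfg.normalizer_eq_top {T : Sylow 3 G} {φ : M0 →* G} (h : Cfg T φ) :
    normalizer ((T : Subgroup G) : Set G) = ⊤ := by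
  have := Fintype.ofFinite G
  have hBC := h.not_conj_BC
  obtain ⟨-, f, -, -, f1, f2, f3, f4⟩ := h.exists_linear hBC
  obtain ⟨-, g, -, -, g1, g2, g3, g4⟩ := h.swap.exists_linear (by
    intro e
    exact h.swap.not_conj_BC e)
  change g (φ mb) = 1 at g1
  change g (φ ma) = 1 at g2
  change g (φ mA) = 1 at g3
  change (g (φ mB) : ℂ) = -1 at g4
  set L := f.ker ⊓ g.ker with hL
  have hTL : (T : Subgroup G) ≤ L := by
    intro t ht
    obtain ⟨m, hm, rfl⟩ := h.exists_T ht
    obtain ⟨j, i, rfl⟩ := gen_T m hm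
    simp [L, mem_inf, MonoidHom.mem_ker, f1, f2, g1, g2]
  have hne : (-1 : ℂ) ≠ 1 := by norm_num
  have hLN : ∀ x, φ x ∈ L → φ x ∈ (T : Subgroup G) := by
    intro x hx
    by_contra hxT
    obtain ⟨j, i, k, hk, rfl⟩ := mod_split x
      (by simpa using fun e => hxT ((h.mem_T _).2 e))
    simp only [L, mem_inf, MonoidHom.mem_ker, map_mul, map_pow, f1, f2, g1, g2, one_pow, mul_one] at hx
    rcases hk with rfl | rfl | rfl
    · exact hne (by rw [← f4, hx.1]; simp)
    · exact hne (by rw [← g4, hx.2]; simp)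
    · have := hx.1
      rw [(by decide +kernel : mC = mA * mB), map_mul, map_mul, f3, mul_one] at this
      exact hne (by rw [← f4, this]; simp)
  let TL : Sylow 3 L := T.subtype hTL
  have hcomm : normalizer ((TL : Subgroup L) : Set L) ≤ centralizer ((TL : Subgroup L) : Set L) := by
    intro x hx
    have hxN : (x : G) ∈ normalizer ((T : Subgroup G) : Set G) :=
      mem_normalizer_fintype fun n hn => (mem_normalizer_iff.1 hx ⟨n, hTL hn⟩).1 hn
    rw [← h.range_eq] at hxN
    obtain ⟨m, hm⟩ := hxN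
    have hxT : (x : G) ∈ centralizer ((T : Subgroup G) : Set G) := by
      rw [h.cent, ← hm]; exact hLN m (hm ▸ x.2)
    exact mem_centralizer_iff.2 fun y hy => Subtype.ext (mem_centralizer_iff.1 hxT y hy)
  have hQ := MonoidHom.ker_transferSylow_isComplement' TL hcomm
  have hQn : (MonoidHom.transferSylow TL hcomm).ker.Normal := MonoidHom.normal_ker _
  generalize (MonoidHom.transferSylow TL hcomm).ker = Q at hQ hQn
  let QG : Subgroup G := Q.map L.subtype
  have hQcard : Nat.card QG = (TL : Subgroup L).index := by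
    rw [Subgroup.card_map_of_injective L.subtype_injective, hQ.index_eq_card]
  have hco : (3 : ℕ).Coprime (Nat.card QG) :=
    (Nat.Prime.coprime_iff_not_dvd Nat.prime_three).2 (hQcard ▸ TL.not_dvd_index)
  have hTQ : ∀ t ∈ (T : Subgroup G), t ∈ normalizer (QG : Set G) := fun t ht =>
    mem_normalizer_fintype fun n hn => by
      obtain ⟨q, hq, rfl⟩ := Subgroup.mem_map.1 (SetLike.mem_coe.1 hn)
      refine SetLike.mem_coe.2 (Subgroup.mem_map.2 ⟨⟨t, hTL ht⟩ * q * ⟨t, hTL ht⟩⁻¹, hQn.conj_mem q hq _, ?_⟩)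
      simp only [map_mul, map_inv, Subgroup.coe_subtype]
  have haT : φ ma ∈ (T : Subgroup G) := (h.mem_T _).2 (by decide +kernel)
  have hbT : φ mb ∈ (T : Subgroup G) := (h.mem_T _).2 (by decide +kernel)
  have hfixW : ∀ x : M0, inT x = true → x ≠ 1 →
      QG ⊓ centralizer {φ x} ≤ (T : Subgroup G) := by
    rintro x hx hx1 y ⟨hyQ, hyC⟩
    obtain ⟨m, rfl⟩ := h.loc _ ((h.mem_T x).2 hx) (h.ne_one hx1) hyC
    exact hLN m (map_subtype_le Q hyQ)
  have hle : QG ≤ (T : Subgroup G) := by
    refine Coprime.le_of_centralizers_le (a := φ ma) (b := φ mb) ?_ (hTQ _ haT) (hTQ _ hbT)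
      Nat.prime_three ?_ ?_ hco ?_ (hfixW ma (by decide +kernel) (by decide +kernel)) fun k => ?_
    · exact Commute.map (show Commute ma mb from (show ma * mb = mb * ma by decide +kernel)) φ
    · rw [← map_pow, (by decide +kernel : ma ^ 3 = 1), map_one]; exact one_mem _
    · rw [← map_pow, (by decide +kernel : mb ^ 3 = 1), map_one]; exact one_mem _
    · refine Nat.Coprime.coprime_dvd_left (card_dvd_of_le (K := (T : Subgroup G)) ?_) ?_
      · rw [closure_le]
        rintro y (rfl | rfl)
        · exact haT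
        · exact hbT
      · rw [h.card_T, show (9 : ℕ) = 3 ^ 2 from rfl]
        exact hco.pow_left 2
    · have hk : ∀ i : Fin 3, inT (ma ^ (i : ℕ) * mb) = true ∧ ma ^ (i : ℕ) * mb ≠ 1 := by decide +kernel
      have e : φ ma ^ k * φ mb = φ (ma ^ (k % 3) * mb) := by
        rw [map_mul, map_pow]
        congr 1
        conv_lhs => rw [← Nat.mod_add_div k 3, pow_add, pow_mul, ← map_pow φ ma 3,
          (by decide +kernel : ma ^ 3 = 1), map_one, one_pow, mul_one]
      rw [e]
      exact hfixW _ (hk ⟨k % 3, Nat.mod_lt _ (by norm_num)⟩).1 (hk ⟨k % 3, Nat.mod_lt _ (by norm_num)⟩).2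
  have hQ1 : QG = ⊥ := by
    refine eq_bot_of_card_eq _ ?_
    have h1 := card_dvd_of_le hle
    rw [h.card_T, show (9 : ℕ) = 3 ^ 2 from rfl] at h1
    exact Nat.eq_one_of_dvd_coprimes (hco.pow_left 2) h1 dvd_rfl
  have hTL' : L = (T : Subgroup G) := by
    have hQb : Q = ⊥ := (map_eq_bot_iff_of_injective _ L.subtype_injective).1 hQ1
    rw [hQb, isComplement'_bot_left] at hQ
    have : ((T : Subgroup G).subgroupOf L) = ⊤ := hQ
    exact le_antisymm (subgroupOf_eq_top.1 this) hTL
  have : L.Normal := Subgroup.normal_inf_normal _ _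
  rw [← hTL']
  exact normalizer_eq_top_iff.2 this

end Cfsg.Agent.ThreeKlein
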