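import Mathlib.GroupTheory.SpecificGroups.Dihedral
import Mathlib.GroupTheory.Sylow
import Mathlib.Algebra.Group.Subgroup.Finite

/-!
# A self-centralising elementary group of order nine with normalizer `D₃ × D₃`

The configuration, the model computations, and the resulting local facts.
-/

set_option autoImplicit false

namespace Cfsg.Agent.ThreeKlein

open Subgroup

/-- The model of the normalizer. -/
abbrev M0 : Type := DihedralGroup 3 × DihedralGroup 3

/-- Is a rotation. -/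
def isRot : DihedralGroup 3 → Bool
  | .r _ => true
  | .sr _ => false

/-- The model of the Sylow subgroup. -/
def inT (m : M0) : Bool := isRot m.1 && isRot m.2

/-- The special set: first coordinate a nontrivial rotation. -/
def inD (m : M0) : Bool := isRot m.1 && (m.1 != 1)

/-- `(r, 1)` -/
def ma : M0 := (.r 1, 1)
/-- `(r, r)` -/
def mab : M0 := (.r 1, .r 1)
/-- `(r, s)` -/
def maB : M0 := (.r 1, .sr 0)
/-- `(s, 1)` -/
def mA : M0 := (.sr 0, 1)
/-- `(1, s)` -/
def mB : M0 := (1, .sr 0)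
/-- `(s, s)` -/
def mC : M0 := (.sr 0, .sr 0)
/-- `(1, r)` -/
def mb : M0 := (1, .r 1)

/-- The involution predicate of `n` below, for given fusion flags. -/
def sel (fA fB fC : Bool) (m : M0) : Bool :=
  match m.1, m.2 with
  | .sr _, .sr _ => fC
  | .sr _, .r i => fA && (i == 0)
  | .r i, .sr _ => fB && (i == 0)
  | .r _, .r _ => false

theorem inv_sq {m : M0} (h : m * m = 1) (h1 : m ≠ 1) :
    ((∀ fA fB fC : Bool, sel fA fB fC m = fA) ∧ ∃ k, k * mA * k⁻¹ = m) ∨
      ((∀ fA fB fC : Bool, sel fA fB fC m = fB) ∧ ∃ k, k * mB * k⁻¹ = m) ∨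
      ((∀ fA fB fC : Bool, sel fA fB fC m = fC) ∧ ∃ k, k * mC * k⁻¹ = m) := by
  revert m; decide +kernel

theorem sel_sq : ∀ (fA fB fC : Bool) (m : M0), sel fA fB fC m = true → m * m = 1 ∧ m ≠ 1 := by
  decide +kernel

set_option maxRecDepth 20000 in
/-- The weight `1·[A] + 3·[C]` squared. -/
theorem card_sel : ∀ fA fB fC : Bool, (Finset.univ.filter fun p : M0 × M0 =>
      sel fA fB fC p.1 && sel fA fB fC p.2 && inD (p.1 * p.2)).card =
    6 * ((if fA then 1 else 0) + 3 * (if fC then 1 else 0)) ^ 2 := by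
  decide +kernel

theorem inD_cases : ∀ m : M0, inD m = true → (∃ k, k * ma * k⁻¹ = m) ∨ (∃ k, k * mab * k⁻¹ = m) ∨
    ∃ k, k * maB * k⁻¹ = m := by
  decide +kernel

theorem inD_pow : ∀ m : M0, inD m = true → inT (m ^ 4) = true ∧ m ^ 4 ≠ 1 ∧ m ^ 6 = 1 ∧ m * m ≠ 1 := by
  decide +kernel

theorem inD_conj : ∀ m k : M0, inD m = true → inD (k * m * k⁻¹) = true := by decide +kernel

theorem inT_cube : ∀ m : M0, (m ^ 3 = 1 ↔ inT m = true) := by decide +kernel

theorem inT_sq_ne : ∀ m : M0, inT m = true → m ≠ 1 → m * m ≠ 1 := by decide +kernel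

theorem inT_comm : ∀ i j : M0, inT i = true → inT j = true → i * j = j * i := by decide +kernel

theorem inD_inv : ∀ m : M0, inD m = true → inD m⁻¹ = true := by decide +kernel

theorem inT_inv : ∀ m : M0, inT m = true → inT m⁻¹ = true := by decide +kernel

theorem card_inT : (Finset.univ.filter fun m : M0 => inT m).card = 9 := by decide +kernel

theorem card_comm_a : (Finset.univ.filter fun m : M0 => m * ma = ma * m).card = 18 := by decide +kernel

theorem card_comm_ab : (Finset.univ.filter fun m : M0 => m * mab = mab * m).card = 9 := by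
  decide +kernel

theorem card_comm_aB : (Finset.univ.filter fun m : M0 => m * maB = maB * m).card = 6 := by
  decide +kernel

theorem not_conj_a_ab : ∀ k : M0, k * ma * k⁻¹ ≠ mab := by decide +kernel

theorem conj_inv : (∃ k : M0, k * ma * k⁻¹ = ma⁻¹) ∧ (∃ k : M0, k * mab * k⁻¹ = mab⁻¹) ∧
    ∃ k : M0, k * maB * k⁻¹ = maB⁻¹ := by decide +kernel

theorem basics : mab ^ 4 = mab ∧ ma ^ 4 = ma ∧ maB ^ 4 = ma ∧ maB ^ 3 = mB ∧ mab ^ 6 = 1 ∧
    maB ^ 6 = 1 ∧ ma ^ 3 = 1 ∧ mab ^ 3 = 1 ∧ maB ^ 3 ≠ 1 ∧ inD ma = true ∧ inD mab = true ∧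
    inD maB = true ∧ inT ma = true ∧ inT mb = true ∧ inT mab = true ∧
    mB * mb * mB⁻¹ * mb⁻¹ = mb ∧ mA * mA = 1 ∧ mB * mB = 1 ∧ mC * mC = 1 ∧
    mA ≠ 1 ∧ mB ≠ 1 ∧ mC ≠ 1 ∧ mb ≠ 1 ∧ ma ≠ 1 := by decide +kernel

universe u

variable {G : Type u} [Group G]

/-- `T` and the embedding `φ` of the model onto its normalizer. -/
structure Cfg (T : Sylow 3 G) (φ : M0 →* G) : Prop where
  inj : Function.Injective φ
  range_eq : φ.range = normalizer ((T : Subgroup G) : Set G)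
  mem_T : ∀ m, φ m ∈ (T : Subgroup G) ↔ inT m = true
  cent : centralizer ((T : Subgroup G) : Set G) = T
  loc : ∀ t ∈ (T : Subgroup G), t ≠ 1 → centralizer ({t} : Set G) ≤ φ.range

variable [Finite G] {T : Sylow 3 G} {φ : M0 →* G}

theorem Cfg.ne_one (h : Cfg T φ) {m : M0} (hm : m ≠ 1) : φ m ≠ 1 := fun e =>
  hm (h.inj (e.trans φ.map_one.symm))

theorem Cfg.T_le (h : Cfg T φ) : (T : Subgroup G) ≤ φ.range := h.range_eq ▸ le_normalizer

theorem Cfg.exists_T (h : Cfg T φ) {t : G} (ht : t ∈ (T : Subgroup G)) :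
    ∃ m, inT m = true ∧ φ m = t := by
  obtain ⟨m, rfl⟩ := h.T_le ht
  exact ⟨m, (h.mem_T m).1 ht, rfl⟩

theorem Cfg.cube (h : Cfg T φ) {z : G} (hz : z ∈ φ.range) (h3 : z ^ 3 = 1) :
    z ∈ (T : Subgroup G) := by
  obtain ⟨m, rfl⟩ := hz
  exact (h.mem_T m).2 ((inT_cube m).1 (h.inj (by rw [map_pow, h3, map_one])))

theorem Cfg.T_cube (h : Cfg T φ) {t : G} (ht : t ∈ (T : Subgroup G)) : t ^ 3 = 1 := by
  obtain ⟨m, hm, rfl⟩ := h.exists_T ht
  rw [← map_pow, (inT_cube m).2 hm, map_one]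

/-- Fusion in `T` happens in the normalizer. -/
theorem Cfg.fus (h : Cfg T φ) {g t : G} (ht : t ∈ (T : Subgroup G)) (ht1 : t ≠ 1)
    (hgt : g * t * g⁻¹ ∈ (T : Subgroup G)) : g ∈ φ.range := by
  rw [h.range_eq]
  refine mem_normalizer_fintype fun n hn => ?_
  refine h.cube (h.loc _ hgt (fun e => ht1 (conj_eq_one_iff.1 e)) ?_) ?_
  · rw [mem_centralizer_singleton_iff]
    obtain ⟨i, hi, rfl⟩ := h.exists_T ht
    obtain ⟨j, hj, rfl⟩ := h.exists_T hn
    have : i * j = j * i := inT_comm i j hi hj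
    calc g * φ j * g⁻¹ * (g * φ i * g⁻¹) = g * φ (j * i) * g⁻¹ := by rw [map_mul]; group
      _ = g * φ (i * j) * g⁻¹ := by rw [this]
      _ = _ := by rw [map_mul]; group
  · rw [conj_pow, h.T_cube hn]; group

/-- Conjugation carrying a special element into the model comes from the normalizer. -/
theorem Cfg.fusD (h : Cfg T φ) {g : G} {m m' : M0} (hm : inD m = true) (hm' : inD m' = true)
    (hg : g * φ m * g⁻¹ = φ m') : g ∈ φ.range := by
  obtain ⟨h1, h2, -, -⟩ := inD_pow m hm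
  refine h.fus ((h.mem_T _).2 h1) (h.ne_one h2) ?_
  rw [map_pow, ← conj_pow, hg, ← map_pow]
  exact (h.mem_T _).2 (inD_pow m' hm').1

/-- Centralizer orders of special elements. -/
theorem Cfg.card_cent (h : Cfg T φ) {m : M0} (hm : inD m = true) {k : ℕ}
    (hk : (Finset.univ.filter fun x : M0 => x * m = m * x).card = k) :
    Nat.card (centralizer ({φ m} : Set G)) = k := by
  rw [← hk, ← Fintype.card_subtype, ← Nat.card_eq_fintype_card]
  refine (Nat.card_eq_of_bijective (fun x : {x : M0 // x * m = m * x} =>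
    (⟨φ x.1, by rw [mem_centralizer_singleton_iff, ← map_mul, x.2, map_mul]⟩ :
      centralizer ({φ m} : Set G))) ⟨?_, ?_⟩).symm
  · intro x y e
    exact Subtype.ext (h.inj (congrArg Subtype.val e))
  · rintro ⟨g, hg⟩
    rw [mem_centralizer_singleton_iff] at hg
    obtain ⟨x, rfl⟩ := h.fusD hm hm (g := g) (by rw [hg, mul_inv_cancel_right])
    exact ⟨⟨x, h.inj (by rw [map_mul, map_mul, hg])⟩, rfl⟩

omit [Finite G] in
theorem isConj_map {x y : M0} (φ : M0 →* G) (hk : ∃ k, k * x * k⁻¹ = y) : IsConj (φ x) (φ y) := by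
  obtain ⟨k, rfl⟩ := hk
  exact isConj_iff.2 ⟨φ k, by simp⟩

theorem Cfg.not_conj_a_ab (h : Cfg T φ) : ¬ IsConj (φ ma) (φ mab) := by
  intro e
  obtain ⟨g, hg⟩ := isConj_iff.1 e
  obtain ⟨k, rfl⟩ := h.fusD basics.2.2.2.2.2.2.2.2.2.1 basics.2.2.2.2.2.2.2.2.2.2.1 hg
  exact ThreeKlein.not_conj_a_ab k (h.inj (by simpa using hg))

theorem Cfg.not_conj_aB (h : Cfg T φ) {m : M0} (hm : m ^ 3 = 1) : ¬ IsConj (φ m) (φ maB) := by
  intro e
  obtain ⟨g, hg⟩ := isConj_iff.1 e
  refine h.ne_one basics.2.2.2.2.2.2.2.2.1 ?_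
  rw [map_pow, ← hg, conj_pow, ← map_pow, hm, map_one]
  group

theorem Cfg.card_T (h : Cfg T φ) : Nat.card (T : Subgroup G) = 9 := by
  rw [← card_inT, ← Fintype.card_subtype, ← Nat.card_eq_fintype_card]
  refine (Nat.card_eq_of_bijective (fun x : {m : M0 // inT m = true} =>
    (⟨φ x.1, (h.mem_T _).2 x.2⟩ : (T : Subgroup G))) ⟨?_, ?_⟩).symm
  · intro x y e
    exact Subtype.ext (h.inj (congrArg Subtype.val e))
  · rintro ⟨t, ht⟩
    obtain ⟨m, hm, rfl⟩ := h.exists_T ht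
    exact ⟨⟨m, hm⟩, rfl⟩

theorem Cfg.card_G (h : Cfg T φ) : ∃ g₀, Nat.card G = 9 * g₀ ∧ ¬ 3 ∣ g₀ :=
  ⟨(T : Subgroup G).index, by rw [← h.card_T, card_mul_index], T.not_dvd_index⟩

/-- An involution is centralised by no Sylow `3`-subgroup. -/
theorem Cfg.not_nine_dvd (h : Cfg T φ) {u : G} (hu : u * u = 1) (hu1 : u ≠ 1) :
    ¬ 9 ∣ Nat.card (centralizer ({u} : Set G)) := by
  intro hd
  obtain ⟨K, hK⟩ := Sylow.exists_subgroup_card_pow_prime 3 (G := centralizer ({u} : Set G)) (n := 2) hd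
  have hcard : Nat.card (K.map (centralizer ({u} : Set G)).subtype) = 3 ^ 2 := by
    rw [Subgroup.card_map_of_injective (subtype_injective _), hK]
  obtain ⟨Q, hQ⟩ := (IsPGroup.of_card hcard).exists_le_sylow
  obtain ⟨g, hg⟩ := MulAction.exists_smul_eq G T Q
  have hTu : ∀ t ∈ (T : Subgroup G), g * t * g⁻¹ ∈ centralizer ({u} : Set G) := by
    intro t ht
    have hQT : g * t * g⁻¹ ∈ (Q : Subgroup G) := by
      rw [← hg]
      exact Subgroup.smul_mem_pointwise_smul t (MulAut.conj g) _ ht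
    have heq : K.map (centralizer ({u} : Set G)).subtype = (Q : Subgroup G) :=
      eq_of_le_of_card_ge hQ (by rw [hcard, Q.card_eq_multiplicity, ← T.card_eq_multiplicity, h.card_T]; norm_num)
    exact map_subtype_le K (heq ▸ hQT)
  have hmem : g⁻¹ * u * g ∈ centralizer ((T : Subgroup G) : Set G) := mem_centralizer_iff.2 fun t ht => by
    have := mem_centralizer_singleton_iff.1 (hTu t ht)
    calc t * (g⁻¹ * u * g) = g⁻¹ * ((g * t * g⁻¹) * u) * g := by group
      _ = g⁻¹ * (u * (g * t * g⁻¹)) * g := by rw [this]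
      _ = _ := by group
  rw [h.cent] at hmem
  obtain ⟨m, hm, hmu⟩ := h.exists_T hmem
  refine inT_sq_ne m hm (fun e => hu1 ?_) (h.inj ?_)
  · rw [e, map_one] at hmu
    calc u = g * (g⁻¹ * u * g) * g⁻¹ := by group
      _ = 1 := by rw [← hmu]; group
  · rw [map_mul, map_one, hmu]
    calc g⁻¹ * u * g * (g⁻¹ * u * g) = g⁻¹ * (u * u) * g := by group
      _ = 1 := by rw [hu]; group

omit [Finite G] in
/-- Exchanging the two coordinates. -/
theorem Cfg.swap (h : Cfg T φ) :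
    Cfg T (φ.comp (MulEquiv.prodComm : M0 ≃* M0).toMonoidHom) := by
  have hr : (φ.comp (MulEquiv.prodComm : M0 ≃* M0).toMonoidHom).range = φ.range := by
    rw [MonoidHom.range_comp, MonoidHom.range_eq_top.2 (MulEquiv.surjective _), ← MonoidHom.range_eq_map]
  refine ⟨h.inj.comp (MulEquiv.injective _), hr.trans h.range_eq, fun m => ?_, h.cent,
    fun t ht ht1 => hr ▸ h.loc t ht ht1⟩
  refine (h.mem_T _).trans ?_
  rcases m with ⟨x, y⟩
  simp [inT, and_comm]

end Cfsg.Agent.ThreeKlein
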