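import Cfsg.Agent.ThreeKlein.Cfg
import Mathlib.Tactic.LinearCombination

/-!
# Counting pairs of involutions whose product is special
-/

set_option autoImplicit false

namespace Cfsg.Agent.ThreeKlein

open Subgroup

universe u

variable {G : Type u} [Group G]

/-- Conjugate to a special element. -/
def SD (φ : M0 →* G) (g : G) : Prop := ∃ h m, inD m = true ∧ h * φ m * h⁻¹ = g

theorem SD.conj {φ : M0 →* G} {g : G} (h : SD φ g) (k : G) : SD φ (k * g * k⁻¹) := by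
  obtain ⟨x, m, hm, rfl⟩ := h
  exact ⟨k * x, m, hm, by group⟩

theorem SD.conj_iff {φ : M0 →* G} {g : G} (k : G) : SD φ (k * g * k⁻¹) ↔ SD φ g :=
  ⟨fun h => by simpa [mul_assoc] using h.conj k⁻¹, fun h => h.conj k⟩

open scoped Classical in
/-- `1` if `u` fuses to the first reflection, plus `3` if it fuses to the product of both. -/
noncomputable def W (φ : M0 →* G) (u : G) : ℤ :=
  (if IsConj u (φ mA) then 1 else 0) + 3 * (if IsConj u (φ mC) then 1 else 0)

variable [Finite G] {T : Sylow 3 G} {φ : M0 →* G}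

theorem Cfg.isConj_sel [DecidableRel (IsConj : G → G → Prop)] (h : Cfg T φ) {u : G}
    (hu : u * u = 1) (hu1 : u ≠ 1) (m : M0) :
    IsConj u (φ m) ↔ sel (decide (IsConj u (φ mA))) (decide (IsConj u (φ mB)))
      (decide (IsConj u (φ mC))) m = true := by
  constructor
  · intro e
    obtain ⟨c, hc⟩ := isConj_iff.1 e
    have h2 : m * m = 1 := h.inj (by
      rw [map_mul, map_one, ← hc]
      calc c * u * c⁻¹ * (c * u * c⁻¹) = c * (u * u) * c⁻¹ := by group
        _ = 1 := by rw [hu]; group)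
    have h1 : m ≠ 1 := fun e1 => hu1 (by
      rw [e1, map_one] at hc
      exact conj_eq_one_iff.1 hc)
    rcases inv_sq h2 h1 with ⟨hs, hk⟩ | ⟨hs, hk⟩ | ⟨hs, hk⟩ <;>
      rw [hs, decide_eq_true_eq] <;> exact e.trans (isConj_map φ hk).symm
  · intro e
    obtain ⟨h2, h1⟩ := sel_sq _ _ _ m e
    rcases inv_sq h2 h1 with ⟨hs, hk⟩ | ⟨hs, hk⟩ | ⟨hs, hk⟩ <;>
      rw [hs, decide_eq_true_eq] at e <;> exact e.trans (isConj_map φ hk)

/-- Every pair of conjugates of `u` with special product is conjugate into the model. -/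
theorem Cfg.exists_model (h : Cfg T φ) {u i j : G} (hu : u * u = 1) (hi : IsConj u i)
    (hj : IsConj u j) (hd : SD φ (i * j)) :
    ∃ (g : G) (m m' : M0), IsConj u (φ m) ∧ IsConj u (φ m') ∧ inD (m * m') = true ∧
      g * φ m * g⁻¹ = i ∧ g * φ m' * g⁻¹ = j := by
  obtain ⟨g, x, hx, hg⟩ := hd
  obtain ⟨c, hc⟩ := isConj_iff.1 hi
  obtain ⟨d, hd'⟩ := isConj_iff.1 hj
  have hi2 : i * i = 1 := by
    rw [← hc]
    calc c * u * c⁻¹ * (c * u * c⁻¹) = c * (u * u) * c⁻¹ := by group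
      _ = 1 := by rw [hu]; group
  have hj2 : j * j = 1 := by
    rw [← hd']
    calc d * u * d⁻¹ * (d * u * d⁻¹) = d * (u * u) * d⁻¹ := by group
      _ = 1 := by rw [hu]; group
  have hinv : (g⁻¹ * i * g) * φ x * (g⁻¹ * i * g)⁻¹ = φ x⁻¹ := by
    have e : φ x = g⁻¹ * (i * j) * g := by rw [← hg]; group
    rw [map_inv, e]
    calc g⁻¹ * i * g * (g⁻¹ * (i * j) * g) * (g⁻¹ * i * g)⁻¹ = g⁻¹ * (i * i) * (j * i⁻¹) * g := by
          group
      _ = _ := by rw [hi2, inv_eq_of_mul_eq_one_right hi2]; simp [mul_assoc,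
                    inv_eq_of_mul_eq_one_right hi2, inv_eq_of_mul_eq_one_right hj2]
  obtain ⟨m, hm⟩ := h.fusD hx (inD_inv x hx) hinv
  have hji : g⁻¹ * j * g = φ (m * x) := by
    rw [map_mul, hm]
    calc g⁻¹ * j * g = g⁻¹ * (i * i) * j * g := by rw [hi2]; group
      _ = g⁻¹ * i * (i * j) * g := by group
      _ = _ := by rw [← hg]; group
  have h2 : m * m = 1 := h.inj (by
    rw [map_mul, map_one, hm]
    calc g⁻¹ * i * g * (g⁻¹ * i * g) = g⁻¹ * (i * i) * g := by group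
      _ = 1 := by rw [hi2]; group)
  refine ⟨g, m, m * x, ?_, ?_, ?_, by rw [hm]; group, by rw [← hji]; group⟩
  · rw [hm]; exact hi.trans (isConj_iff.2 ⟨g⁻¹, by group⟩)
  · rw [← hji]; exact hj.trans (isConj_iff.2 ⟨g⁻¹, by group⟩)
  · rw [← mul_assoc, h2, one_mul]; exact hx

/-- The double count. -/
theorem Cfg.count (h : Cfg T φ) {u : G} (hu : u * u = 1) (hu1 : u ≠ 1) :
    6 * (Nat.card {g : G // SD φ (g * u * g⁻¹ * u)} : ℤ) =
      (Nat.card (centralizer ({u} : Set G)) : ℤ) ^ 2 * W φ u ^ 2 := by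
  classical
  let Pi := {p : G × G // IsConj u p.1 ∧ IsConj u p.2 ∧ SD φ (p.1 * p.2)}
  let X := {p : G × G // SD φ (p.1 * u * p.1⁻¹ * (p.2 * u * p.2⁻¹))}
  let S := {p : M0 × M0 // IsConj u (φ p.1) ∧ IsConj u (φ p.2) ∧ inD (p.1 * p.2) = true}
  have hX1 : Nat.card X = Nat.card {g : G // SD φ (g * u * g⁻¹ * u)} * Nat.card G := by
    rw [← Nat.card_prod]
    have key : ∀ p : G × G, SD φ (p.1 * u * p.1⁻¹ * (p.2 * u * p.2⁻¹)) ↔
        SD φ ((p.2⁻¹ * p.1) * u * (p.2⁻¹ * p.1)⁻¹ * u) := fun p => by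
      rw [← SD.conj_iff (g := (p.2⁻¹ * p.1) * u * (p.2⁻¹ * p.1)⁻¹ * u) p.2]
      constructor <;> intro e <;> convert e using 1 <;> group
    exact Nat.card_congr
      { toFun := fun p => (⟨p.1.2⁻¹ * p.1.1, (key p.1).1 p.2⟩, p.1.2)
        invFun := fun p => ⟨(p.2 * p.1.1, p.2), (key _).2 (by simpa [mul_assoc] using p.1.2)⟩
        left_inv := fun p => Subtype.ext (Prod.ext (by simp) rfl)
        right_inv := fun p => Prod.ext (Subtype.ext (by simp)) rfl }
  have hX2 : Nat.card X = Nat.card Pi * (Nat.card (centralizer ({u} : Set G)) *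
      Nat.card (centralizer ({u} : Set G))) := by
    rw [← Nat.card_prod, ← Nat.card_prod]
    have c1 : ∀ p : Pi, ∃ c d : G, c * u * c⁻¹ = p.1.1 ∧ d * u * d⁻¹ = p.1.2 := fun p => by
      obtain ⟨c, hc⟩ := isConj_iff.1 p.2.1
      obtain ⟨d, hd⟩ := isConj_iff.1 p.2.2.1
      exact ⟨c, d, hc, hd⟩
    choose c d hc hd using c1
    have hC : ∀ (a : G) (x : centralizer ({u} : Set G)),
        a * x * u * (a * (x : G))⁻¹ = a * u * a⁻¹ := fun a x => by
      rw [mul_assoc a (x : G) u, mem_centralizer_singleton_iff.1 x.2]; group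
    refine (Nat.card_eq_of_bijective (fun q : Pi × (centralizer ({u} : Set G) ×
        centralizer ({u} : Set G)) => (⟨(c q.1 * q.2.1, d q.1 * q.2.2), by
          rw [hC, hC, hc, hd]; exact q.1.2.2.2⟩ : X)) ⟨?_, ?_⟩).symm
    · rintro ⟨p, x, y⟩ ⟨p', x', y'⟩ e
      have e1 : c p * x = c p' * x' := congrArg (fun z : X => z.1.1) e
      have e2 : d p * y = d p' * y' := congrArg (fun z : X => z.1.2) e
      have hp : p = p' := Subtype.ext (Prod.ext
        (by rw [← hc p, ← hc p', ← hC (c p) x, e1, hC])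
        (by rw [← hd p, ← hd p', ← hC (d p) y, e2, hC]))
      subst hp
      exact Prod.ext rfl (Prod.ext (Subtype.ext (mul_left_cancel e1)) (Subtype.ext (mul_left_cancel e2)))
    · rintro ⟨⟨a, b⟩, hab⟩
      let p : Pi := ⟨(a * u * a⁻¹, b * u * b⁻¹), isConj_iff.2 ⟨a, rfl⟩, isConj_iff.2 ⟨b, rfl⟩, hab⟩
      have hm : ∀ a c : G, c * u * c⁻¹ = a * u * a⁻¹ → c⁻¹ * a ∈ centralizer ({u} : Set G) :=
        fun a c e => mem_centralizer_singleton_iff.2 (by
          calc c⁻¹ * a * u = c⁻¹ * (a * u * a⁻¹) * a := by group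
            _ = c⁻¹ * (c * u * c⁻¹) * a := by rw [e]
            _ = _ := by group)
      refine ⟨(p, ⟨_, hm a (c p) (hc p)⟩, ⟨_, hm b (d p) (hd p)⟩), Subtype.ext (Prod.ext ?_ ?_)⟩ <;>
        simp
  have hPi : Nat.card Pi * Nat.card M0 = Nat.card G * Nat.card S := by
    rw [← Nat.card_prod, ← Nat.card_prod]
    have c1 : ∀ p : Pi, ∃ (g : G) (s : S), g * φ s.1.1 * g⁻¹ = p.1.1 ∧ g * φ s.1.2 * g⁻¹ = p.1.2 :=
      fun p => by
        obtain ⟨g, m, m', h1, h2, h3, h4, h5⟩ := h.exists_model hu p.2.1 p.2.2.1 p.2.2.2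
        exact ⟨g, ⟨(m, m'), h1, h2, h3⟩, h4, h5⟩
    choose g s hg1 hg2 using c1
    have hk : ∀ (p : Pi) (k : M0), IsConj u (φ (k⁻¹ * (s p).1.1 * k)) ∧
        IsConj u (φ (k⁻¹ * (s p).1.2 * k)) ∧
        inD (k⁻¹ * (s p).1.1 * k * (k⁻¹ * (s p).1.2 * k)) = true := fun p k =>
      ⟨(s p).2.1.trans (isConj_map φ ⟨k⁻¹, by rw [inv_inv]⟩),
        (s p).2.2.1.trans (isConj_map φ ⟨k⁻¹, by rw [inv_inv]⟩), by
          have := inD_conj _ k⁻¹ (s p).2.2.2
          rw [show k⁻¹ * (s p).1.1 * k * (k⁻¹ * (s p).1.2 * k) =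
            k⁻¹ * ((s p).1.1 * (s p).1.2) * k⁻¹⁻¹ by group]
          exact this⟩
    refine Nat.card_eq_of_bijective (fun q : Pi × M0 => ((g q.1 * φ q.2,
      (⟨(q.2⁻¹ * (s q.1).1.1 * q.2, q.2⁻¹ * (s q.1).1.2 * q.2), hk q.1 q.2⟩ : S)) : G × S)) ⟨?_, ?_⟩
    · rintro ⟨p, k⟩ ⟨p', k'⟩ e
      have e1 : g p * φ k = g p' * φ k' := congrArg Prod.fst e
      have e2 := congrArg (fun z : G × S => z.1 * φ z.2.1.1 * z.1⁻¹) e
      have e3 := congrArg (fun z : G × S => z.1 * φ z.2.1.2 * z.1⁻¹) e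
      simp only [map_mul, map_inv] at e2 e3
      have hp : p = p' := Subtype.ext (Prod.ext
        (by rw [← hg1 p, ← hg1 p']; convert e2 using 1 <;> group)
        (by rw [← hg2 p, ← hg2 p']; convert e3 using 1 <;> group))
      subst hp
      exact Prod.ext rfl (h.inj (mul_left_cancel e1))
    · rintro ⟨a, ⟨⟨m, m'⟩, h1, h2, h3⟩⟩
      let p : Pi := ⟨(a * φ m * a⁻¹, a * φ m' * a⁻¹), h1.trans (isConj_iff.2 ⟨a, rfl⟩),
        h2.trans (isConj_iff.2 ⟨a, rfl⟩), ⟨a, m * m', h3, by rw [map_mul]; group⟩⟩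
      have e1 : g p * φ (s p).1.1 * (g p)⁻¹ = a * φ m * a⁻¹ := hg1 p
      have e2 : g p * φ (s p).1.2 * (g p)⁻¹ = a * φ m' * a⁻¹ := hg2 p
      obtain ⟨k, hk'⟩ := h.fusD h3 (s p).2.2.2 (g := (g p)⁻¹ * a) (by
        rw [map_mul, map_mul]
        calc (g p)⁻¹ * a * (φ m * φ m') * ((g p)⁻¹ * a)⁻¹ =
            (g p)⁻¹ * ((a * φ m * a⁻¹) * (a * φ m' * a⁻¹)) * g p := by group
          _ = _ := by rw [← e1, ← e2]; group)
      refine ⟨(p, k), Prod.ext (show g p * φ k = a by rw [hk']; group) (Subtype.ext (Prod.ext (h.inj ?_) (h.inj ?_)))⟩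
      · rw [map_mul, map_mul, map_inv, hk']
        calc ((g p)⁻¹ * a)⁻¹ * φ (s p).1.1 * ((g p)⁻¹ * a) =
            a⁻¹ * (g p * φ (s p).1.1 * (g p)⁻¹) * a := by group
          _ = _ := by rw [e1]; group
      · rw [map_mul, map_mul, map_inv, hk']
        calc ((g p)⁻¹ * a)⁻¹ * φ (s p).1.2 * ((g p)⁻¹ * a) =
            a⁻¹ * (g p * φ (s p).1.2 * (g p)⁻¹) * a := by group
          _ = _ := by rw [e2]; group
  have hS : (Nat.card S : ℤ) = 6 * W φ u ^ 2 := by
    have e : Nat.card S = (Finset.univ.filter fun p : M0 × M0 =>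
        sel (decide (IsConj u (φ mA))) (decide (IsConj u (φ mB))) (decide (IsConj u (φ mC))) p.1 &&
        sel (decide (IsConj u (φ mA))) (decide (IsConj u (φ mB))) (decide (IsConj u (φ mC))) p.2 &&
        inD (p.1 * p.2)).card := by
      rw [Nat.card_eq_fintype_card, Fintype.card_subtype]
      congr 1
      ext p
      simp only [Finset.mem_filter, Finset.mem_univ, true_and, Bool.and_eq_true,
        ← h.isConj_sel hu hu1]
      exact and_assoc.symm
    rw [e, card_sel, W]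
    by_cases hA : IsConj u (φ mA) <;> by_cases hC : IsConj u (φ mC) <;> simp [hA, hC]
  have hM : Nat.card M0 = 36 := by
    rw [Nat.card_eq_fintype_card]; decide +kernel
  have hG : (Nat.card G : ℤ) ≠ 0 := Nat.cast_ne_zero.2 Nat.card_pos.ne'
  have hX : ((Nat.card {g : G // SD φ (g * u * g⁻¹ * u)} * Nat.card G : ℕ) : ℤ) = (Nat.card Pi *
      (Nat.card (centralizer ({u} : Set G)) * Nat.card (centralizer ({u} : Set G))) : ℕ) := by
    rw [← hX1, hX2]
  have hP : ((Nat.card Pi * Nat.card M0 : ℕ) : ℤ) = (Nat.card G * Nat.card S : ℕ) := by rw [hPi]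
  rw [hM] at hP
  push_cast at hX hP
  rw [hS] at hP
  refine mul_left_cancel₀ (mul_ne_zero (by norm_num : (6 : ℤ) ≠ 0) hG) ?_
  linear_combination 36 * hX + ((Nat.card (centralizer ({u} : Set G)) : ℤ) ^ 2) * hP

end Cfsg.Agent.ThreeKlein
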