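import Cfsg.Agent.ThreeKlein.Side
import Cfsg.Agent.Char.Linear

/-!
# A linear character on each side, and normality of the Sylow subgroup
-/

set_option autoImplicit false

namespace Cfsg.Agent.ThreeKlein

open Cfsg.Agent Subgroup

universe u

variable {G : Type u} [Group G] [Fintype G] {T : Sylow 3 G} {φ : M0 →* G}

theorem gen_second : ∀ y : DihedralGroup 3, ∃ j : Fin 2, ∃ i : Fin 3,
    ((1, y) : M0) = mB ^ (j : ℕ) * mb ^ (i : ℕ) := by decide +kernel

theorem gen_T : ∀ x : M0, inT x = true → ∃ j i : Fin 3, x = ma ^ (j : ℕ) * mb ^ (i : ℕ) := by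
  decide +kernel

theorem gen_split : ∀ x : M0, x = (x.1, 1) * (1, x.2) := by decide +kernel

/-- The first involution of the second factor does not fuse to that of the first. -/
theorem Cfg.not_conj_AB (h : Cfg T φ) : ¬ IsConj (φ mB) (φ mA) := by
  intro hc
  obtain ⟨p, -, e, -, a, E, -⟩ := h.exists_exc
  obtain ⟨-, -, -, -, -, -, -, -, -, -, -, -, -, -, -, -, -, hB2, -, -, hB1, -, -, -⟩ := basics
  have hB2' : φ mB * φ mB = 1 := by rw [← map_mul, hB2, map_one]
  obtain ⟨v, hv, heq⟩ := E.eqn _ hB2' (h.ne_one hB1)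
  obtain ⟨v', hv', hmod⟩ := E.atB
  have : v = v' := by
    have h1 : e * v = e * v' := by exact_mod_cast hv.symm.trans hv'
    rcases E.sign with s | s <;> subst s <;> omega
  subst this
  obtain ⟨g₀, hG, hg₀⟩ := h.card_G
  obtain ⟨k, hk⟩ : 3 ∣ Nat.card (centralizer ({φ mB} : Set G)) := by
    have h3 : orderOf (φ ma) = 3 := orderOf_eq_prime
      (by rw [← map_pow, (by decide +kernel : ma ^ 3 = 1), map_one]) (h.ne_one (by decide +kernel))
    refine h3.symm.dvd.trans (orderOf_dvd_natCard _ (mem_centralizer_singleton_iff.2 ?_))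
    rw [← map_mul, ← map_mul]
    congr 1
  have hk3 : ¬ (3 : ℤ) ∣ (k : ℤ) := fun hd => h.not_nine_dvd hB2' (h.ne_one hB1) (by
    obtain ⟨l, rfl⟩ := Int.natCast_dvd_natCast.1 hd
    exact ⟨l, by rw [hk]; ring⟩)
  have ha := E.amod
  obtain ⟨β, hβ⟩ : (3 : ℤ) ∣ a - v := by omega
  rw [hG, hk, hβ] at heq
  push_cast at heq
  have h3 : (3 : ℤ) ∣ (k : ℤ) ^ 2 * W φ (φ mB) ^ 2 * (a * (1 + a)) :=
    ⟨6 * g₀ * β ^ 2, mul_left_cancel₀ (show (9 : ℤ) ≠ 0 by norm_num) (by linear_combination -heq)⟩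
  rcases Int.prime_three.dvd_or_dvd h3 with h' | h'
  · rcases Int.prime_three.dvd_or_dvd h' with h'' | h''
    · exact three_not_dvd_sq hk3 h''
    · refine three_not_dvd_sq ?_ h''
      classical
      simp only [W, if_pos hc]
      split_ifs <;> omega
  · rcases Int.prime_three.dvd_or_dvd h' with h'' | h'' <;> omega

/-- A normal subgroup with a Sylow subgroup inside `T` is supplemented by the normalizer. -/
theorem Cfg.range_sup (h : Cfg T φ) {M : Subgroup G} [M.Normal] {P : Sylow 3 M}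
    (hP : (P : Subgroup M).map M.subtype ≤ (T : Subgroup G)) (hne : (P : Subgroup M).map M.subtype ≠ ⊥) :
    φ.range ⊔ M = ⊤ := by
  refine eq_top_iff.2 ((Sylow.normalizer_sup_eq_top P).symm.le.trans (sup_le_sup_right (fun n hn => ?_) _))
  obtain ⟨⟨x, hx⟩, hx1⟩ := Subgroup.ne_bot_iff_exists_ne_one.1 hne
  exact h.fus (hP hx) (fun e => hx1 (Subtype.ext e)) (hP ((mem_normalizer_iff.1 hn x).1 hx))

/-- A linear exceptional character. -/
theorem Cfg.linear_of_one (h : Cfg T φ) {χ : Cfsg.IrrCharacter G} {e : ℤ} (E : Exc φ χ e 1) :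
    ∃ f : G →* ℂˣ, (χ : G → ℂ) = (fun g => (f g : ℂ)) ∧ Exc φ χ 1 1 ∧ f (φ ma) = 1 ∧ f (φ mb) = 1 ∧
      f (φ mB) = 1 ∧ (f (φ mA) : ℂ) = -1 := by
  obtain ⟨n, hn, hn'⟩ := Char.IsIrr.degree χ.2
  have he : e = 1 := by
    have : (n : ℤ) = e * 1 := by exact_mod_cast hn'.symm.trans E.deg
    rcases E.sign with s | s <;> omega
  subst he
  obtain ⟨f, hf⟩ := Char.IsChar.exists_hom (Char.IsIrr.isCharacter χ.2) (by rw [E.deg]; norm_num)
  have val : ∀ g, (χ : G → ℂ) g = ((1 : ℤ) : ℂ) → f g = 1 := fun g hg => by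
    rw [hf] at hg
    exact Units.ext (by simpa using hg)
  have h1 := val _ E.val_a
  have h2 := val _ E.val_ab
  have h3 := val _ E.val_aB
  rw [(by decide +kernel : mab = ma * mb), map_mul, map_mul, h1, one_mul] at h2
  rw [(by decide +kernel : maB = ma * mB), map_mul, map_mul, h1, one_mul] at h3
  refine ⟨f, hf, E, h1, h2, h3, ?_⟩
  have hA : (f (φ mA) : ℂ) ^ 2 = 1 := by
    rw [← Units.val_pow_eq_pow_val, ← map_pow, ← map_pow, (by decide +kernel : mA ^ 2 = 1)]
    simp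
  refine (sq_eq_one_iff.1 hA).resolve_left fun hA1 => E.ne_one ?_
  have hA1' : f (φ mA) = 1 := Units.ext (by simpa using hA1)
  have hTM : (T : Subgroup G) ≤ f.ker := fun t ht => by
    obtain ⟨m, hm, rfl⟩ := h.exists_T ht
    obtain ⟨j, i, rfl⟩ := gen_T m hm
    simp [MonoidHom.mem_ker, h1, h2]
  have hNM : φ.range ≤ f.ker := by
    rintro _ ⟨x, rfl⟩
    rw [gen_split x]
    obtain ⟨j, i, e2⟩ := gen_second x.2
    obtain ⟨j', i', e1⟩ : ∃ j : Fin 2, ∃ i : Fin 3, ((x.1, 1) : M0) = mA ^ (j : ℕ) * ma ^ (i : ℕ) := by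
      have : ∀ y : DihedralGroup 3, ∃ j : Fin 2, ∃ i : Fin 3,
          ((y, 1) : M0) = mA ^ (j : ℕ) * ma ^ (i : ℕ) := by decide +kernel
      exact this x.1
    rw [e1, e2]
    simp [MonoidHom.mem_ker, h1, h2, h3, hA1']
  have htop : f.ker = ⊤ := by
    have hs := h.range_sup (M := f.ker) (P := T.subtype hTM) ?_ ?_
    · rwa [sup_eq_right.2 hNM] at hs
    · simp [Sylow.coe_subtype, map_subgroupOf_eq_of_le hTM]
    · rw [Sylow.coe_subtype, map_subgroupOf_eq_of_le hTM]
      intro e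
      have := h.card_T
      rw [e, card_bot] at this
      omega
  rw [hf]
  funext g
  have : f g = 1 := MonoidHom.mem_ker.1 (htop ▸ mem_top g)
  simp [this]

/-- If the product of the reflections does not fuse to the second one, there is a linear character. -/
theorem Cfg.exists_linear (h : Cfg T φ) (hC : ¬ IsConj (φ mB) (φ mC)) :
    ∃ (χ : Cfsg.IrrCharacter G) (f : G →* ℂˣ), (χ : G → ℂ) = (fun g => (f g : ℂ)) ∧ Exc φ χ 1 1 ∧
      f (φ ma) = 1 ∧ f (φ mb) = 1 ∧ f (φ mB) = 1 ∧ (f (φ mA) : ℂ) = -1 := by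
  obtain ⟨p, q, e, e', a, E, E'⟩ := h.exists_exc
  suffices ha : a = 1 ∨ a = -2 by
    rcases ha with rfl | rfl
    · obtain ⟨f, hf⟩ := h.linear_of_one E
      exact ⟨p, f, hf⟩
    · obtain ⟨f, hf⟩ := h.linear_of_one (e := e') (by simpa using E')
      exact ⟨q, f, hf⟩
  obtain ⟨-, -, -, -, -, -, -, -, -, -, -, -, -, hbT, -, hcomm, -, hB2, -, -, hB1, -, hb1, -⟩ := basics
  have hB2' : φ mB * φ mB = 1 := by rw [← map_mul, hB2, map_one]
  obtain ⟨v, hv, heq⟩ := E.eqn _ hB2' (h.ne_one hB1)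
  have hW : W φ (φ mB) = 0 := by
    classical
    rw [W, if_neg h.not_conj_AB, if_neg hC]; norm_num
  have hva : v = a := by
    rw [hW] at heq
    have : 2 * (Nat.card G : ℤ) * (a - v) ^ 2 = 0 := by rw [heq]; ring
    rcases mul_eq_zero.1 this with h0 | h0
    · have := Nat.card_pos (α := G); omega
    · have := pow_eq_zero_iff (n := 2) (by norm_num) |>.1 h0; omega
  subst hva
  have hχ := Char.IsIrr.isCharacter p.2
  set M := Char.kerSubgroup hχ with hM
  have hBM : φ mB ∈ M := by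
    show (p : G → ℂ) (φ mB) = (p : G → ℂ) 1
    rw [hv, E.deg]
  have hbM : φ mb ∈ M := by
    have hk : M.Normal := Char.kerSubgroup_normal hχ
    have := M.mul_mem hBM (hk.conj_mem _ (M.inv_mem hBM) (φ mb))
    rw [← map_inv, ← map_inv, ← map_mul, ← map_mul, ← map_mul, ← mul_assoc, ← mul_assoc, hcomm] at this
    exact this
  obtain ⟨n, hn, hn'⟩ := Char.IsIrr.degree p.2
  have hdeg : (n : ℤ) = e * v := by exact_mod_cast hn'.symm.trans E.deg
  have hamod := E.amod
  by_cases haM : φ ma ∈ M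
  · have h1 : e = e * v := by
      have : (p : G → ℂ) (φ ma) = (p : G → ℂ) 1 := haM
      rw [E.val_a, E.deg] at this
      exact_mod_cast this
    rcases E.sign with s | s <;> subst s <;> omega
  have h9 : ¬ 9 ∣ Nat.card M := by
    intro hd
    obtain ⟨K, hK⟩ := Sylow.exists_subgroup_card_pow_prime 3 (G := M) (n := 2) hd
    have hcard : Nat.card (K.map M.subtype) = 3 ^ 2 := by
      rw [Subgroup.card_map_of_injective (subtype_injective _), hK]
    obtain ⟨Q, hQ⟩ := (IsPGroup.of_card hcard).exists_le_sylow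
    have heq' : K.map M.subtype = (Q : Subgroup G) :=
      eq_of_le_of_card_ge hQ (by
        rw [hcard, Q.card_eq_multiplicity, ← T.card_eq_multiplicity, h.card_T]; norm_num)
    obtain ⟨g, hg⟩ := MulAction.exists_smul_eq G T Q
    have hQT : g * φ ma * g⁻¹ ∈ (Q : Subgroup G) := by
      rw [← hg]
      exact Subgroup.smul_mem_pointwise_smul _ (MulAut.conj g) _ ((h.mem_T _).2 (by decide +kernel))
    have := (Char.kerSubgroup_normal hχ).conj_mem _ (map_subtype_le K (heq' ▸ hQT)) g⁻¹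
    refine haM ?_
    convert this using 1
    group
  have ho : orderOf (φ mb) = 3 := orderOf_eq_prime
    (by rw [← map_pow, (by decide +kernel : mb ^ 3 = 1), map_one]) (h.ne_one hb1)
  have hP : Nat.card (zpowers (⟨φ mb, hbM⟩ : M)) = 3 ^ (Nat.card M).factorization 3 := by
    have h3 : 3 ∣ Nat.card M := ho.symm.dvd.trans (orderOf_dvd_natCard _ hbM)
    have f1 : 1 ≤ (Nat.card M).factorization 3 :=
      (Nat.Prime.pow_dvd_iff_le_factorization Nat.prime_three Nat.card_pos.ne').1 (by simpa using h3)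
    have f2 : ¬ 2 ≤ (Nat.card M).factorization 3 := fun h2 =>
      h9 ((Nat.Prime.pow_dvd_iff_le_factorization Nat.prime_three Nat.card_pos.ne').2 h2)
    rw [Nat.card_zpowers, orderOf_mk, ho, show (Nat.card M).factorization 3 = 1 by omega, pow_one]
  let P : Sylow 3 M := Sylow.ofCard _ hP
  have hPT : (P : Subgroup M).map M.subtype = zpowers (φ mb) := by
    simp [P, MonoidHom.map_zpowers]
  have hsup : φ.range ⊔ M = ⊤ := h.range_sup (P := P)
    (by rw [hPT, zpowers_le]; exact (h.mem_T _).2 hbT)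
    (by rw [hPT, Ne, zpowers_eq_bot]; exact h.ne_one hb1)
  obtain ⟨ψ, hψ, hψe⟩ := Char.IsIrr.exists_quotient M p.2 fun x hx => hx
  let θ : DihedralGroup 3 → G ⧸ M := fun x => QuotientGroup.mk (φ (x, 1))
  have hθ : Function.Surjective θ := by
    intro q'
    obtain ⟨g, rfl⟩ := QuotientGroup.mk_surjective q'
    obtain ⟨r, ⟨x, rfl⟩, m, hm, rfl⟩ := mem_sup_of_normal_right.1 (hsup ▸ mem_top g)
    refine ⟨x.1, QuotientGroup.eq.2 ?_⟩
    obtain ⟨j, i, e2⟩ := gen_second x.2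
    rw [show φ x = φ (x.1, 1) * φ (1, x.2) by rw [← map_mul, ← gen_split], ← mul_assoc, ← mul_assoc,
      inv_mul_cancel, one_mul, e2, map_mul, map_pow,
      map_pow]
    exact M.mul_mem (M.mul_mem (M.pow_mem hBM _) (M.pow_mem hbM _)) hm
  have hQ6 : Nat.card (G ⧸ M) ≤ 6 := by
    refine (Nat.card_le_card_of_surjective θ hθ).trans ?_
    rw [DihedralGroup.nat_card]
  have hn6 : n ^ 2 ≤ 6 := by
    choose D hD using fun χ : Cfsg.IrrCharacter (G ⧸ M) => Char.IsChar.degree (Char.IsIrr.isCharacter χ.2)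
    have hs := Char.sum_sq_degree (G := G ⧸ M)
    simp only [hD] at hs
    have hs' : ∑ χ, D χ ^ 2 = Nat.card (G ⧸ M) := by exact_mod_cast hs
    have h1 : D ⟨ψ, hψ⟩ = n := by
      have := hD ⟨ψ, hψ⟩
      change ψ 1 = _ at this
      rw [show ψ 1 = (n : ℂ) by rw [← QuotientGroup.mk_one, ← hψe, hn']] at this
      exact_mod_cast this.symm
    have := Finset.single_le_sum (f := fun χ => D χ ^ 2) (fun i _ => Nat.zero_le _)
      (Finset.mem_univ (⟨ψ, hψ⟩ : Cfsg.IrrCharacter (G ⧸ M)))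
    simp only [h1] at this
    omega
  have hn2 : n ≤ 2 := by
    by_contra hlt
    have : 3 * 3 ≤ n * n := Nat.mul_le_mul (by omega) (by omega)
    rw [pow_two] at hn6
    omega
  rcases E.sign with s | s <;> subst s <;> omega

/-- The product of the reflections fuses to neither of them. -/
theorem Cfg.not_conj_BC (h : Cfg T φ) : ¬ IsConj (φ mB) (φ mC) := by
  classical
  intro hBC
  set φ' := φ.comp (MulEquiv.prodComm : M0 ≃* M0).toMonoidHom
  have e1 : φ' mB = φ mA := rfl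
  have e2 : φ' mC = φ mC := rfl
  have e3 : φ' mA = φ mB := rfl
  obtain ⟨χ, f, hf, E', -, -, -, hfA⟩ := h.swap.exists_linear (by
    show ¬ IsConj (φ' mB) (φ' mC)
    rw [e1, e2]
    exact fun hAC => h.not_conj_AB (hBC.trans hAC.symm))
  rw [e3] at hfA
  obtain ⟨-, -, -, -, -, -, -, -, -, -, -, -, -, -, -, -, -, hB2, -, -, hB1, -, -, -⟩ := basics
  have hB2' : φ mB * φ mB = 1 := by rw [← map_mul, hB2, map_one]
  obtain ⟨v, hv, heq'⟩ := E'.eqn _ hB2' (h.ne_one hB1)
  have hv1 : v = -1 := by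
    rw [hf] at hv
    have : ((1 * v : ℤ) : ℂ) = ((-1 : ℤ) : ℂ) := by rw [← hv]; simpa using hfA
    have := Int.cast_inj.1 this
    omega
  subst hv1
  have hW' : W φ' (φ mB) = 4 := by
    rw [W, e2, e3, if_pos (IsConj.refl _), if_pos hBC]; norm_num
  rw [hW'] at heq'
  obtain ⟨p, -, e, -, a, E, -⟩ := h.exists_exc
  obtain ⟨v, -, heq⟩ := E.eqn _ hB2' (h.ne_one hB1)
  have hW : W φ (φ mB) = 3 := by
    rw [W, if_neg h.not_conj_AB, if_pos hBC]; norm_num
  rw [hW] at heq
  have hCpos : (Nat.card (centralizer ({φ mB} : Set G)) : ℤ) ^ 2 ≠ 0 :=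
    pow_ne_zero 2 (Nat.cast_ne_zero.2 Nat.card_pos.ne')
  have key : 8 * (a - v) ^ 2 = 9 * (a * (a + 1)) := by
    have hG : (Nat.card G : ℤ) = 4 * (Nat.card (centralizer ({φ mB} : Set G)) : ℤ) ^ 2 := by
      linarith
    rw [hG] at heq
    refine mul_left_cancel₀ hCpos ?_
    linear_combination heq
  obtain ⟨m, hm⟩ : (3 : ℤ) ∣ a - v := by
    refine Int.prime_three.dvd_of_dvd_pow (n := 2) ?_
    omega
  refine not_tri_square E.amod (m := m) (mul_left_cancel₀ (show (9 : ℤ) ≠ 0 by norm_num) ?_)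
  rw [hm] at key
  linear_combination -key

end Cfsg.Agent.ThreeKlein
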