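import Cfsg.Agent.ThreeKlein.Count
import Cfsg.Agent.ThreeKlein.Six
import Cfsg.Agent.CharArith.Basic
import Mathlib.RingTheory.Int.Basic

/-!
# The two exceptional characters of one side
-/

set_option autoImplicit false

namespace Cfsg.Agent.ThreeKlein

open Cfsg.Agent
open scoped ComplexConjugate

universe u

variable {G : Type u} [Group G] [Fintype G]

/-- What is known about an exceptional character, with sign `e` and signed degree `a`. -/
structure Exc (φ : M0 →* G) (χ : Cfsg.IrrCharacter G) (e a : ℤ) : Prop where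
  sign : e = 1 ∨ e = -1
  deg : (χ : G → ℂ) 1 = ((e * a : ℤ) : ℂ)
  amod : a % 3 = 1
  val_a : (χ : G → ℂ) (φ ma) = (e : ℂ)
  val_ab : (χ : G → ℂ) (φ mab) = (e : ℂ)
  val_aB : (χ : G → ℂ) (φ maB) = (e : ℂ)
  ne_one : (χ : G → ℂ) ≠ fun _ => 1
  eqn : ∀ u : G, u * u = 1 → u ≠ 1 → ∃ v : ℤ, (χ : G → ℂ) u = ((e * v : ℤ) : ℂ) ∧
    2 * (Nat.card G : ℤ) * (a - v) ^ 2 =
      (Nat.card (Subgroup.centralizer ({u} : Set G)) : ℤ) ^ 2 * W φ u ^ 2 * (a * (1 + a))
  atB : ∃ v : ℤ, (χ : G → ℂ) (φ mB) = ((e * v : ℤ) : ℂ) ∧ v % 3 = 1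

theorem sq_bound {x : ℤ} (h : x ^ 2 ≤ 1) : x = 0 ∨ x = 1 ∨ x = -1 := by
  have h1 : x < 2 := by nlinarith
  have h2 : -2 < x := by nlinarith
  omega

theorem three_not_dvd_sq {x : ℤ} (h : ¬ (3 : ℤ) ∣ x) : ¬ (3 : ℤ) ∣ x ^ 2 :=
  fun e => h (Int.prime_three.dvd_of_dvd_pow e)

/-- Finds two indices supporting an integer vector with squares summing to three. -/
theorem exists_two {ι : Type*} [Fintype ι] [DecidableEq ι] (f : ι → ℤ) (o : ι) (ho : f o = 1)
    (hs : ∑ i, f i ^ 2 = 3) :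
    ∃ p q, p ≠ q ∧ p ≠ o ∧ q ≠ o ∧ (f p = 1 ∨ f p = -1) ∧ (f q = 1 ∨ f q = -1) ∧
      ∀ g : ι → ℤ, ∑ i, f i * g i = g o + f p * g p + f q * g q := by
  rw [← Finset.add_sum_erase _ _ (Finset.mem_univ o), ho] at hs
  set R := (Finset.univ : Finset ι).erase o
  have hab : ∀ i ∈ R, f i = 0 ∨ f i = 1 ∨ f i = -1 := by
    intro i hi
    refine sq_bound ?_
    have h2 := Finset.single_le_sum (f := fun i => f i ^ 2) (fun i _ => sq_nonneg _) hi
    by_contra h
    have : 2 * 2 ≤ f i ^ 2 := by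
      rcases lt_or_ge (f i) 0 with h' | h'
      · have : f i ≤ -2 := by
          by_contra h''
          have : f i = -1 := by omega
          simp [this] at h
        nlinarith
      · have : 2 ≤ f i := by
          by_contra h''
          interval_cases hh : f i <;> simp_all
        nlinarith
    have h3 : (1 : ℤ) + ∑ i ∈ R, f i ^ 2 = 3 := by simpa using hs
    omega
  have hcard : (R.filter fun i => f i ≠ 0).card = 2 := by
    have : ∀ i ∈ R, f i ^ 2 = if f i ≠ 0 then 1 else 0 := fun i hi => by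
      rcases hab i hi with h | h | h <;> simp [h]
    rw [Finset.sum_congr rfl this, Finset.sum_boole] at hs
    simp only [one_pow] at hs
    omega
  obtain ⟨p, q, hpq, hS⟩ := Finset.card_eq_two.1 hcard
  have hp : p ∈ R.filter fun i => f i ≠ 0 := by rw [hS]; simp
  have hq : q ∈ R.filter fun i => f i ≠ 0 := by rw [hS]; simp
  rw [Finset.mem_filter] at hp hq
  refine ⟨p, q, hpq, Finset.ne_of_mem_erase hp.1, Finset.ne_of_mem_erase hq.1,
    (hab p hp.1).resolve_left hp.2, (hab q hq.1).resolve_left hq.2, fun g => ?_⟩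
  rw [← Finset.add_sum_erase _ _ (Finset.mem_univ o), ho, one_mul, add_assoc]
  congr 1
  rw [← Finset.sum_filter_of_ne (p := fun i => f i ≠ 0) (fun i _ h e => h (by simp [e])), hS,
    Finset.sum_pair hpq]

/-- Two orthogonal vectors of norm three, each orthogonal to the first one, cannot both meet it. -/
theorem not_both {ι : Type*} [Fintype ι] [DecidableEq ι] (y w : ι → ℤ) {p q : ι} (hpq : p ≠ q)
    {s : ℤ} (hs : s = 1 ∨ s = -1) (hy : y q = s * y p) (hw : w q = s * w p)
    (hyy : ∑ i, y i ^ 2 = 3) (hww : ∑ i, w i ^ 2 = 3) (hyw : ∑ i, y i * w i = 0) :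
    y p = 0 ∨ w p = 0 := by
  have hs2 : s ^ 2 = 1 := by rcases hs with h | h <;> simp [h]
  have split : ∀ f : ι → ℤ, ∑ i, f i = f p + f q + ∑ i ∈ ((Finset.univ.erase p).erase q), f i := by
    intro f
    rw [← Finset.add_sum_erase _ _ (Finset.mem_univ p),
      ← Finset.add_sum_erase _ _ (Finset.mem_erase.2 ⟨hpq.symm, Finset.mem_univ q⟩), add_assoc]
  rw [split] at hyy hww hyw
  by_contra h
  push Not at h
  set R := (Finset.univ.erase p).erase q
  have h1 : 1 ≤ y p ^ 2 := by have : 0 < y p ^ 2 := lt_of_le_of_ne (sq_nonneg _) (pow_ne_zero 2 h.1).symm; omega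
  have h2 : 1 ≤ w p ^ 2 := by have : 0 < w p ^ 2 := lt_of_le_of_ne (sq_nonneg _) (pow_ne_zero 2 h.2).symm; omega
  have hR1 : ∑ i ∈ R, y i ^ 2 = 3 - 2 * y p ^ 2 := by
    linear_combination hyy - (y q + s * y p) * hy - y p ^ 2 * hs2
  have hR2 : ∑ i ∈ R, w i ^ 2 = 3 - 2 * w p ^ 2 := by
    linear_combination hww - (w q + s * w p) * hw - w p ^ 2 * hs2
  have hR3 : ∑ i ∈ R, y i * w i = -2 * (y p * w p) := by
    linear_combination hyw - w q * hy - s * y p * hw - y p * w p * hs2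
  have hy1 : y p ^ 2 = 1 := by
    have := Finset.sum_nonneg (s := R) fun i _ => sq_nonneg (y i)
    omega
  have hw1 : w p ^ 2 = 1 := by
    have := Finset.sum_nonneg (s := R) fun i _ => sq_nonneg (w i)
    omega
  have h0 : 0 ≤ ∑ i ∈ R, (y i + y p * w p * w i) ^ 2 := Finset.sum_nonneg fun i _ => sq_nonneg _
  have e : ∑ i ∈ R, (y i + y p * w p * w i) ^ 2 = ∑ i ∈ R, y i ^ 2 +
      2 * (y p * w p) * ∑ i ∈ R, y i * w i + (y p * w p) ^ 2 * ∑ i ∈ R, w i ^ 2 := by
    rw [Finset.mul_sum, Finset.mul_sum, ← Finset.sum_add_distrib, ← Finset.sum_add_distrib]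
    exact Finset.sum_congr rfl fun i _ => by ring
  rw [e, hR1, hR2, hR3, mul_pow, hy1, hw1] at h0
  have : (y p * w p) ^ 2 = 1 := by rw [mul_pow, hy1, hw1]; norm_num
  nlinarith

variable {T : Sylow 3 G} {φ : M0 →* G}

/-- The two exceptional characters. -/
theorem Cfg.exists_exc (h : Cfg T φ) :
    ∃ (p q : Cfsg.IrrCharacter G) (e e' a : ℤ), Exc φ p e a ∧ Exc φ q e' (-1 - a) := by
  classical
  obtain ⟨b1, b2, b3, b4, b5, b6, b7, b8, b9, hDa, hDab, hDaB, -, -, -, -, -, -, -, -, -, -, -, -⟩ :=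
    basics
  obtain ⟨kA, kAB, kaB⟩ := conj_inv
  have hsix : ∀ χ : Cfsg.IrrCharacter G, ∃ d v P R Q : ℤ, (χ : G → ℂ) 1 = d ∧
      (χ : G → ℂ) (φ mB) = v ∧ (χ : G → ℂ) (φ ma) = P ∧ (χ : G → ℂ) (φ maB) = R ∧
      (χ : G → ℂ) (φ mab) = Q ∧ 3 ∣ d - P ∧ 3 ∣ v - R ∧ 2 ∣ P - R ∧ 3 ∣ d - Q := by
    intro χ
    obtain ⟨d, v, P, R, h1, h2, h3, h4, h5, h6, h7⟩ := six_values (Char.IsIrr.isCharacter χ.2)
      (x := φ maB) (by rw [← map_pow, b6, map_one]) (by rw [← map_inv]; exact isConj_map φ kaB)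
    obtain ⟨d', -, Q, -, g1, -, g3, -, g5, -, -⟩ := six_values (Char.IsIrr.isCharacter χ.2)
      (x := φ mab) (by rw [← map_pow, b5, map_one]) (by rw [← map_inv]; exact isConj_map φ kAB)
    rw [← map_pow, b3] at h3
    rw [← map_pow, b4] at h2
    rw [← map_pow, b1] at g3
    have hd : d' = d := by exact_mod_cast g1.symm.trans h1
    exact ⟨d, v, P, R, Q, h1, h2, h3, h4, g3, h5, h6, h7, hd ▸ g5⟩
  choose d vB P R Q hd hvB hP hR hQ hdP hvR hPR hdQ using hsix
  -- column orthogonality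
  have col : ∀ (m : M0) (g : G) (k : ℕ), inD m = true →
      (Finset.univ.filter fun x : M0 => x * m = m * x).card = k →
      ∑ χ : Cfsg.IrrCharacter G, (χ : G → ℂ) (φ m) * conj ((χ : G → ℂ) g) =
        if IsConj (φ m) g then (k : ℂ) else 0 := by
    intro m g k hm hk
    rw [Char.second_orthogonality, h.card_cent hm hk]
    split_ifs <;> rfl
  have colZ : ∀ (m m' : M0) (f f' : Cfsg.IrrCharacter G → ℤ) (k : ℕ), inD m = true →
      (Finset.univ.filter fun x : M0 => x * m = m * x).card = k →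
      (∀ χ : Cfsg.IrrCharacter G, (χ : G → ℂ) (φ m) = f χ) →
      (∀ χ : Cfsg.IrrCharacter G, (χ : G → ℂ) (φ m') = f' χ) →
      ∑ χ, f χ * f' χ = if IsConj (φ m) (φ m') then (k : ℤ) else 0 := by
    intro m m' f f' k hm hk hf hf'
    have := col m (φ m') k hm hk
    simp only [hf, hf', map_intCast] at this
    split_ifs at this ⊢ <;> exact_mod_cast this
  have n1 := h.not_conj_a_ab
  have n2 := h.not_conj_aB b7
  have n3 := h.not_conj_aB b8
  have PP := colZ ma ma P P 18 hDa card_comm_a hP hP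
  have QQ := colZ mab mab Q Q 9 hDab card_comm_ab hQ hQ
  have RR := colZ maB maB R R 6 hDaB card_comm_aB hR hR
  have PQ := colZ ma mab P Q 18 hDa card_comm_a hP hQ
  have PR := colZ ma maB P R 18 hDa card_comm_a hP hR
  have QR := colZ mab maB Q R 9 hDab card_comm_ab hQ hR
  rw [if_pos (IsConj.refl _)] at PP QQ RR
  rw [if_neg n1] at PQ
  rw [if_neg n2] at PR
  rw [if_neg n3] at QR
  push_cast at PP QQ RR
  have hde : ∀ χ, ∃ e : ℤ, 6 * e = P χ + 2 * Q χ + 3 * R χ := fun χ => by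
    have := hdP χ; have := hdQ χ; have := hPR χ
    exact ⟨(P χ + 2 * Q χ + 3 * R χ) / 6, by omega⟩
  choose e he using hde
  have hdw : ∀ χ, ∃ w : ℤ, 3 * w = P χ - Q χ := fun χ => by
    have := hdP χ; have := hdQ χ
    exact ⟨(P χ - Q χ) / 3, by omega⟩
  choose w hw using hdw
  set y : Cfsg.IrrCharacter G → ℤ := fun χ => e χ - R χ with hy
  have S1 : ∑ χ, e χ ^ 2 = 3 := by
    refine mul_left_cancel₀ (show (36 : ℤ) ≠ 0 by norm_num) ?_
    rw [Finset.mul_sum]
    calc ∑ χ, 36 * e χ ^ 2 = ∑ χ, (P χ * P χ + 4 * (Q χ * Q χ) + 9 * (R χ * R χ) +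
          4 * (P χ * Q χ) + 6 * (P χ * R χ) + 12 * (Q χ * R χ)) :=
          Finset.sum_congr rfl fun χ _ => by linear_combination (6 * e χ + P χ + 2 * Q χ + 3 * R χ) * he χ
      _ = 36 * 3 := by
          simp only [Finset.sum_add_distrib, ← Finset.mul_sum, PP, QQ, RR, PQ, PR, QR]; norm_num
  have S2 : ∑ χ, e χ * R χ = 3 := by
    refine mul_left_cancel₀ (show (6 : ℤ) ≠ 0 by norm_num) ?_
    rw [Finset.mul_sum]
    calc ∑ χ, 6 * (e χ * R χ) = ∑ χ, (P χ * R χ + 2 * (Q χ * R χ) + 3 * (R χ * R χ)) :=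
          Finset.sum_congr rfl fun χ _ => by linear_combination R χ * he χ
      _ = 6 * 3 := by
          simp only [Finset.sum_add_distrib, ← Finset.mul_sum, RR, PR, QR]; norm_num
  have S3 : ∑ χ, y χ ^ 2 = 3 := by
    calc ∑ χ, y χ ^ 2 = ∑ χ, (e χ ^ 2 - 2 * (e χ * R χ) + R χ * R χ) :=
          Finset.sum_congr rfl fun χ _ => by simp only [hy]; ring
      _ = 3 := by
          simp only [Finset.sum_add_distrib, Finset.sum_sub_distrib, ← Finset.mul_sum, S1, S2, RR]
          norm_num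
  have S4 : ∑ χ, e χ * y χ = 0 := by
    calc ∑ χ, e χ * y χ = ∑ χ, (e χ ^ 2 - e χ * R χ) :=
          Finset.sum_congr rfl fun χ _ => by simp only [hy]; ring
      _ = 0 := by simp only [Finset.sum_sub_distrib, S1, S2]; norm_num
  have S5 : ∑ χ, w χ ^ 2 = 3 := by
    refine mul_left_cancel₀ (show (9 : ℤ) ≠ 0 by norm_num) ?_
    rw [Finset.mul_sum]
    calc ∑ χ, 9 * w χ ^ 2 = ∑ χ, (P χ * P χ - 2 * (P χ * Q χ) + Q χ * Q χ) :=
          Finset.sum_congr rfl fun χ _ => by linear_combination (3 * w χ + P χ - Q χ) * hw χ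
      _ = 9 * 3 := by
          simp only [Finset.sum_add_distrib, Finset.sum_sub_distrib, ← Finset.mul_sum, PP, PQ, QQ]
          norm_num
  have S6 : ∑ χ, e χ * w χ = 0 := by
    refine mul_left_cancel₀ (show (18 : ℤ) ≠ 0 by norm_num) ?_
    rw [Finset.mul_sum]
    calc ∑ χ, 18 * (e χ * w χ) = ∑ χ, (P χ * P χ + P χ * Q χ - 2 * (Q χ * Q χ) +
          3 * (P χ * R χ) - 3 * (Q χ * R χ)) :=
          Finset.sum_congr rfl fun χ _ => by
            linear_combination (3 * w χ) * he χ + (P χ + 2 * Q χ + 3 * R χ) * hw χ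
      _ = 18 * 0 := by
          simp only [Finset.sum_add_distrib, Finset.sum_sub_distrib, ← Finset.mul_sum, PP, QQ, PQ, PR, QR]
          norm_num
  have S7 : ∑ χ, y χ * w χ = 0 := by
    have hRw : ∑ χ, R χ * w χ = 0 := by
      refine mul_left_cancel₀ (show (3 : ℤ) ≠ 0 by norm_num) ?_
      rw [Finset.mul_sum]
      calc ∑ χ, 3 * (R χ * w χ) = ∑ χ, (P χ * R χ - Q χ * R χ) :=
            Finset.sum_congr rfl fun χ _ => by linear_combination R χ * hw χ
        _ = 3 * 0 := by simp only [Finset.sum_sub_distrib, PR, QR]; norm_num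
    simp only [hy, sub_mul, Finset.sum_sub_distrib, S6, hRw, sub_zero]
  let o : Cfsg.IrrCharacter G := ⟨fun _ => 1, Char.isIrrCharacter_one⟩
  have ho : P o = 1 ∧ Q o = 1 ∧ R o = 1 := by
    have h1 := hP o; have h2 := hQ o; have h3 := hR o
    simp only [o] at h1 h2 h3
    exact ⟨by exact_mod_cast h1.symm, by exact_mod_cast h2.symm, by exact_mod_cast h3.symm⟩
  have hou : ∀ g, (o : G → ℂ) g = 1 := fun _ => rfl
  have heo : e o = 1 := by have := he o; rw [ho.1, ho.2.1, ho.2.2] at this; omega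
  obtain ⟨p, q, hpq, hpo, hqo, hep, heq, hsum⟩ := exists_two e o heo S1
  have hyo : y o = 0 := by simp [hy, heo, ho.2.2]
  have hwo : w o = 0 := by have := hw o; rw [ho.1, ho.2.1] at this; omega
  have Ey := hsum y
  rw [S4, hyo] at Ey
  have Ew := hsum w
  rw [S6, hwo] at Ew
  have hyq : y q = -(e p * e q) * y p := by
    rcases hep with a1 | a1 <;> rcases heq with a2 | a2 <;> rw [a1, a2] at Ey ⊢ <;> omega
  have hwq : w q = -(e p * e q) * w p := by
    rcases hep with a1 | a1 <;> rcases heq with a2 | a2 <;> rw [a1, a2] at Ew ⊢ <;> omega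
  have hnb := not_both y w hpq
    (s := -(e p * e q)) (by rcases hep with a1 | a1 <;> rcases heq with a2 | a2 <;> simp [a1, a2])
    hyq hwq S3 S5 S7
  -- the induced function
  have hF : ∀ g : G, (∑ χ : Cfsg.IrrCharacter G, (e χ : ℂ) * (χ : G → ℂ) g) =
      if SD φ g then 3 else 0 := by
    intro g
    have hc : ∀ (m : M0) (f : Cfsg.IrrCharacter G → ℤ) (k : ℕ), inD m = true →
        (Finset.univ.filter fun x : M0 => x * m = m * x).card = k →
        (∀ χ : Cfsg.IrrCharacter G, (χ : G → ℂ) (φ m) = f χ) →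
        ∑ χ : Cfsg.IrrCharacter G, (f χ : ℂ) * (χ : G → ℂ) g =
          if IsConj (φ m) g then (k : ℂ) else 0 := by
      intro m f k hm hk hf
      have := congrArg conj (col m g k hm hk)
      rw [map_sum] at this
      refine (Eq.trans ?_ this).trans (by split_ifs <;> simp)
      refine Finset.sum_congr rfl fun χ _ => ?_
      simp [hf]
    have e6 : (6 : ℂ) * ∑ χ : Cfsg.IrrCharacter G, (e χ : ℂ) * (χ : G → ℂ) g =
        (if IsConj (φ ma) g then ((18 : ℕ) : ℂ) else 0) +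
          2 * (if IsConj (φ mab) g then ((9 : ℕ) : ℂ) else 0) +
          3 * (if IsConj (φ maB) g then ((6 : ℕ) : ℂ) else 0) := by
      rw [← hc ma P 18 hDa card_comm_a hP, ← hc mab Q 9 hDab card_comm_ab hQ,
        ← hc maB R 6 hDaB card_comm_aB hR, Finset.mul_sum, Finset.mul_sum, Finset.mul_sum,
        ← Finset.sum_add_distrib, ← Finset.sum_add_distrib]
      refine Finset.sum_congr rfl fun χ _ => ?_
      have : ((6 * e χ : ℤ) : ℂ) = ((P χ + 2 * Q χ + 3 * R χ : ℤ) : ℂ) := by rw [he χ]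
      push_cast at this
      linear_combination (χ : G → ℂ) g * this
    refine mul_left_cancel₀ (show (6 : ℂ) ≠ 0 by norm_num) (e6.trans ?_)
    by_cases hg : SD φ g
    · rw [if_pos hg]
      obtain ⟨x, m, hm, rfl⟩ := hg
      have hx : IsConj (φ m) (x * φ m * x⁻¹) := isConj_iff.2 ⟨x, rfl⟩
      rcases inD_cases m hm with hk | hk | hk
      · have c := (isConj_map φ hk).trans hx
        rw [if_pos c, if_neg fun c' => n1 (c.trans c'.symm), if_neg fun c' => n2 (c.trans c'.symm)]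
        norm_num
      · have c := (isConj_map φ hk).trans hx
        rw [if_neg fun c' => n1 (c'.trans c.symm), if_pos c, if_neg fun c' => n3 (c.trans c'.symm)]
        norm_num
      · have c := (isConj_map φ hk).trans hx
        rw [if_neg fun c' => n2 (c'.trans c.symm), if_neg fun c' => n3 (c'.trans c.symm), if_pos c]
        norm_num
    · have hn : ∀ m : M0, inD m = true → ¬ IsConj (φ m) g := fun m hm c => by
        obtain ⟨x, hx⟩ := isConj_iff.1 c
        exact hg ⟨x, m, hm, hx⟩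
      rw [if_neg hg, if_neg (hn ma hDa), if_neg (hn mab hDab), if_neg (hn maB hDaB)]
      norm_num
  have hsumC : ∀ f : Cfsg.IrrCharacter G → ℂ,
      ∑ χ, (e χ : ℂ) * f χ = f o + (e p : ℂ) * f p + (e q : ℂ) * f q := by
    intro f
    have hz : ∀ χ, χ ≠ o → χ ≠ p → χ ≠ q → e χ = 0 := fun χ h1 h2 h3 => by
      have := hsum fun i => if i = χ then 1 else 0
      simpa [Ne.symm h1, Ne.symm h2, Ne.symm h3] using this
    rw [← Finset.sum_subset (Finset.subset_univ {o, p, q}) fun χ _ hχ => by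
      simp only [Finset.mem_insert, Finset.mem_singleton, not_or] at hχ
      simp [hz χ hχ.1 hχ.2.1 hχ.2.2]]
    rw [Finset.sum_insert (by simp [hpo.symm, hqo.symm]), Finset.sum_pair hpq, heo]
    push_cast
    ring
  have hep2 : e p * e p = 1 := by rcases hep with a1 | a1 <;> simp [a1]
  have heq2 : e q * e q = 1 := by rcases heq with a1 | a1 <;> simp [a1]
  set a := e p * d p with ha
  have no_sd : ∀ g : G, g * g = 1 → ¬ SD φ g := by
    rintro g hg ⟨x, m, hm, rfl⟩
    refine h.ne_one (inD_pow m hm).2.2.2 ?_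
    rw [map_mul]
    calc φ m * φ m = x⁻¹ * (x * φ m * x⁻¹ * (x * φ m * x⁻¹)) * x := by group
      _ = 1 := by rw [hg]; group
  have hq' : e q * d q = -1 - a := by
    have h1 := hF 1
    rw [if_neg (no_sd 1 (one_mul _)), hsumC, hou, hd p, hd q] at h1
    have h2 : (1 : ℤ) + e p * d p + e q * d q = 0 := by exact_mod_cast h1
    omega
  have hdne : ∀ χ, d χ ≠ 0 := fun χ e0 => Char.IsIrr.one_ne_zero χ.2 (by rw [hd, e0, Int.cast_zero])
  have ha0 : a ≠ 0 := mul_ne_zero (by rcases hep with a1 | a1 <;> simp [a1]) (hdne p)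
  have ha1 : 1 + a ≠ 0 := fun e0 => by
    have : e q * d q = 0 := by omega
    rcases mul_eq_zero.1 this with h0 | h0
    · rcases heq with a1 | a1 <;> simp [a1] at h0
    · exact hdne q h0
  -- the equation at an involution
  have eqn : ∀ u : G, u * u = 1 → u ≠ 1 → ∃ v : ℤ, (p : G → ℂ) u = ((e p * v : ℤ) : ℂ) ∧
      (q : G → ℂ) u = ((e q * (-1 - v) : ℤ) : ℂ) ∧
      2 * (Nat.card G : ℤ) * (a - v) ^ 2 =
        (Nat.card (Subgroup.centralizer ({u} : Set G)) : ℤ) ^ 2 * W φ u ^ 2 * (a * (1 + a)) := by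
    intro u hu hu1
    have hint : ∀ χ : Cfsg.IrrCharacter G, ∃ v : ℤ, (χ : G → ℂ) u = v := fun χ => by
      obtain ⟨-, v, -, -, -, hv, -, -, -, -, -⟩ := six_values (Char.IsIrr.isCharacter χ.2) (x := u)
        (by rw [show (6 : ℕ) = 2 * 3 from rfl, pow_mul, sq, hu, one_pow])
        (by rw [inv_eq_of_mul_eq_one_right hu])
      refine ⟨v, ?_⟩
      rw [← hv, pow_succ, sq, hu, one_mul]
    obtain ⟨vp, hvp⟩ := hint p
    obtain ⟨vq, hvq⟩ := hint q
    have hlin : (1 : ℤ) + e p * vp + e q * vq = 0 := by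
      have h1 := hF u
      rw [if_neg (no_sd u hu), hsumC, hou, hvp, hvq] at h1
      exact_mod_cast h1
    refine ⟨e p * vp, by rw [hvp]; congr 1; linear_combination -vp * hep2,
      by rw [hvq]; congr 1; linear_combination (-vq) * heq2 + e q * hlin, ?_⟩
    have hG : (Nat.card G : ℂ) ≠ 0 := Char.card_ne_zero
    set H := Nat.card {g : G // SD φ (g * u * g⁻¹ * u)}
    have hA : ∑ χ : Cfsg.IrrCharacter G, (e χ : ℂ) * ((χ : G → ℂ) u ^ 2 / (χ : G → ℂ) 1) =
        (Nat.card G : ℂ)⁻¹ * (3 * H) := by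
      have e1 : ∀ χ : Cfsg.IrrCharacter G, (χ : G → ℂ) u ^ 2 / (χ : G → ℂ) 1 =
          (Nat.card G : ℂ)⁻¹ * ∑ g, (χ : G → ℂ) (g * u * g⁻¹ * u) := fun χ => by
        have h1 := Char.IsIrr.one_ne_zero χ.2
        have h2 := CharArith.classMult χ.2 u u
        field_simp
        linear_combination -h2
      simp only [e1, mul_left_comm ((e _ : ℤ) : ℂ) (Nat.card G : ℂ)⁻¹, ← Finset.mul_sum]
      congr 1
      simp only [Finset.mul_sum]
      rw [Finset.sum_comm]
      simp only [hF, ← Finset.sum_filter, Finset.sum_const, nsmul_eq_mul]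
      rw [mul_comm]
      congr 2
      simp [H, Nat.card_eq_fintype_card, Fintype.card_subtype]
    rw [hsumC, hvp, hvq, hd p, hd q] at hA
    simp only [hou, one_pow, div_one] at hA
    have hdp : (d p : ℂ) ≠ 0 := Int.cast_ne_zero.2 (hdne p)
    have hdq : (d q : ℂ) ≠ 0 := Int.cast_ne_zero.2 (hdne q)
    field_simp at hA
    have hZ : (Nat.card G : ℤ) * (d p * d q + e p * vp ^ 2 * d q + e q * vq ^ 2 * d p) =
        d p * d q * (3 * H) := by
      have : ((((Nat.card G : ℤ) * (d p * d q + e p * vp ^ 2 * d q + e q * vq ^ 2 * d p) : ℤ)) : ℂ) =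
          ((d p * d q * (3 * H) : ℤ) : ℂ) := by
        push_cast
        linear_combination hA
      exact_mod_cast this
    have h6 := h.count hu hu1
    change 6 * (H : ℤ) = _ at h6
    have hsq : (e q * vq) ^ 2 = (1 + e p * vp) ^ 2 := by
      rw [show e q * vq = -(1 + e p * vp) by omega]; ring
    -- multiply through by the two signs
    have hm : (Nat.card G : ℤ) * (a * (e q * d q) + (e p * vp) ^ 2 * (e q * d q) +
        (e q * vq) ^ 2 * a) = a * (e q * d q) * (3 * H) := by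
      rw [ha]
      linear_combination (e p * e q) * hZ
    rw [hq', hsq] at hm
    linear_combination -2 * hm + (a * (1 + a)) * h6
  -- arithmetic at `φ mB`
  obtain ⟨-, -, -, -, -, -, -, -, -, -, -, -, -, -, -, -, -, hB2, -, -, hB1, -, -, -⟩ := basics
  have hB2' : φ mB * φ mB = 1 := by rw [← map_mul, hB2, map_one]
  obtain ⟨v, hv1, hv2, hv3⟩ := eqn (φ mB) hB2' (h.ne_one hB1)
  have hvp : v = e p * vB p := by
    have : e p * v = vB p := by exact_mod_cast hv1.symm.trans (hvB p)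
    linear_combination e p * this - v * hep2
  have key : y p = 0 ∧ w p = 0 := by
    obtain ⟨g₀, hG, hg₀⟩ := h.card_G
    have h3C : 3 ∣ Nat.card (Subgroup.centralizer ({φ mB} : Set G)) := by
      have : orderOf (φ ma) = 3 :=
        orderOf_eq_prime (by rw [← map_pow, b7, map_one]) (h.ne_one (by decide +kernel))
      refine this.symm.dvd.trans ?_
      refine Subgroup.orderOf_dvd_natCard _ (Subgroup.mem_centralizer_singleton_iff.2 ?_)
      rw [← map_mul, ← map_mul]
      congr 1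
    have hyb : y p ^ 2 ≤ 1 ∧ w p ^ 2 ≤ 1 := by
      have s : ∀ f : Cfsg.IrrCharacter G → ℤ, ∑ i, f i ^ 2 = 3 → f q = -(e p * e q) * f p →
          f p ^ 2 ≤ 1 := by
        intro f hf hq
        have h2 := Finset.sum_le_sum_of_subset_of_nonneg (Finset.subset_univ {p, q})
          (fun i _ _ => sq_nonneg (f i))
        rw [hf, Finset.sum_pair hpq, hq] at h2
        have : (-(e p * e q) * f p) ^ 2 = f p ^ 2 := by
          linear_combination f p ^ 2 * (e q * e q * hep2 + heq2)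
        omega
      exact ⟨s y S3 hyq, s w S5 hwq⟩
    by_contra hne
    have hG3 : ¬ (3 : ℤ) ∣ (g₀ : ℤ) := by exact_mod_cast hg₀
    obtain ⟨k, hk⟩ := h3C
    rw [hG, hk] at hv3
    push_cast at hv3
    have hP' : P p = e p + y p + 2 * w p := by
      have := he p; have := hw p
      simp only [hy]
      omega
    have hR' : R p = e p - y p := by simp [hy]
    have := hdP p; have := hvR p
    have ht : (3 : ℤ) ∣ a * (1 + a) ∧ ¬ (3 : ℤ) ∣ a - v := by
      rw [ha, hvp]
      rcases hnb with h0 | h0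
      · rcases sq_bound hyb.2 with hh | hh | hh
        · exact absurd ⟨h0, hh⟩ hne
        all_goals
          rcases hep with a1 | a1 <;> rw [a1] at hP' hR' ⊢ <;> rw [hh, h0] at hP' <;>
            rw [h0] at hR' <;> refine ⟨?_, by omega⟩ <;>
            first
              | exact dvd_mul_of_dvd_left (by omega) _
              | exact dvd_mul_of_dvd_right (by omega) _
      · rcases sq_bound hyb.1 with hh | hh | hh
        · exact absurd ⟨hh, h0⟩ hne
        all_goals
          rcases hep with a1 | a1 <;> rw [a1] at hP' hR' ⊢ <;> rw [hh, h0] at hP' <;>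
            rw [hh] at hR' <;> refine ⟨?_, by omega⟩ <;>
            first
              | exact dvd_mul_of_dvd_left (by omega) _
              | exact dvd_mul_of_dvd_right (by omega) _
    obtain ⟨⟨t, ht⟩, hn⟩ := ht
    rw [ht] at hv3
    have h27 : (3 : ℤ) ∣ 2 * (g₀ : ℤ) * (a - v) ^ 2 :=
      ⟨(k : ℤ) ^ 2 * W φ (φ mB) ^ 2 * t, mul_left_cancel₀ (show (9 : ℤ) ≠ 0 by norm_num)
        (by linear_combination hv3)⟩
    rcases Int.prime_three.dvd_or_dvd h27 with h' | h'
    · rcases Int.prime_three.dvd_or_dvd h' with h'' | h''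
      · norm_num at h''
      · exact hG3 h''
    · exact three_not_dvd_sq hn h'
  have vals : ∀ χ, y χ = 0 → w χ = 0 → P χ = e χ ∧ Q χ = e χ ∧ R χ = e χ := fun χ h1 h2 => by
    have := he χ; have := hw χ
    simp only [hy] at h1
    omega
  have hyq0 : y q = 0 := by rw [hyq, key.1, mul_zero]
  have hwq0 : w q = 0 := by rw [hwq, key.2, mul_zero]
  have mk : ∀ χ, χ ≠ o → (e χ = 1 ∨ e χ = -1) → y χ = 0 → w χ = 0 →
      (∀ u : G, u * u = 1 → u ≠ 1 → ∃ v : ℤ, (χ : G → ℂ) u = ((e χ * v : ℤ) : ℂ) ∧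
        2 * (Nat.card G : ℤ) * (e χ * d χ - v) ^ 2 =
          (Nat.card (Subgroup.centralizer ({u} : Set G)) : ℤ) ^ 2 * W φ u ^ 2 *
            (e χ * d χ * (1 + e χ * d χ))) →
      Exc φ χ (e χ) (e χ * d χ) := by
    intro χ hχ hs h1 h2 he'
    obtain ⟨v1, v2, v3⟩ := vals χ h1 h2
    have := hdP χ; have := hvR χ
    refine ⟨hs, ?_, ?_, by rw [hP, v1], by rw [hQ, v2], by rw [hR, v3],
      fun e0 => hχ (Subtype.ext e0), he', e χ * vB χ, ?_, ?_⟩
    · rw [hd, ← mul_assoc]; rcases hs with a1 | a1 <;> simp [a1]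
    · rcases hs with a1 | a1 <;> rw [a1] at v1 ⊢ <;> omega
    · rw [hvB, ← mul_assoc]; rcases hs with a1 | a1 <;> simp [a1]
    · rcases hs with a1 | a1 <;> rw [a1] at v3 ⊢ <;> omega
  refine ⟨p, q, e p, e q, a, ?_, hq' ▸ mk q hqo heq hyq0 hwq0 fun u hu hu1 => ?_⟩
  · exact mk p hpo hep key.1 key.2 fun u hu hu1 => by
      obtain ⟨v, h1, -, h3⟩ := eqn u hu hu1
      exact ⟨v, h1, h3⟩
  · obtain ⟨v, -, h2, h3⟩ := eqn u hu hu1
    refine ⟨-1 - v, h2, ?_⟩
    rw [hq']
    linear_combination h3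

end Cfsg.Agent.ThreeKlein
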